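import Groth.Agent.AlgGrp.K395.PicRat
import Groth.Agent.Sga3C.GeomRedPerf
import Groth.Agent.Fdesc.GeomAlgClosed
import Groth.Agent.Books.AlgPts
import Groth.Agent.Sga3C.SchemImage
import Mathlib.AlgebraicGeometry.Geometrically.Integral

/-!
# The Picard group of a product with a rational variety

`X` a normal variety with a nonempty open subscheme which is open in an affine space, `Y` a normal variety over the
algebraically closed field `k`: `Pic X × Pic Y = Pic (X × Y)`.
-/

set_option autoImplicit false
universe u
open CategoryTheory Limits MonoidalCategory CartesianMonoidalCategory MonObj AlgebraicGeometry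
open Groth.Agent.Grpsch.PicGrp

namespace K407.PicProd

variable {k : Type u} [Field k]

theorem geometricallyIntegral [IsAlgClosed k] {X : Scheme.{u}}
    (f : X ⟶ Spec (CommRingCat.of k)) [IsIntegral X] : GeometricallyIntegral f := by
  have : GeometricallyReduced f := Groth.Agent.Sga3C.GeomRedPerf.geometricallyReduced_of_isReduced f
  have : GeometricallyIrreducible f :=
    Groth.Agent.Fdesc.GeomAlgClosed.geometricallyIrreducible_of_irreducibleSpace f
  exact GeometricallyIntegral.of_geometricallyReduced_of_geometricallyIrreducible f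

/-- **Invertible modules on a product with a rational variety.** -/
theorem exists_mul [IsAlgClosed k] {n : Type u} [Finite n] {X Y W : Over (Spec (CommRingCat.of k))}
    [IsIntegral X.left] [LocallyOfFiniteType X.hom] [IsIntegral Y.left] [LocallyOfFiniteType Y.hom]
    (hX : Pi1.IsNormalScheme X.left) (hY : Pi1.IsNormalScheme Y.left)
    (w : W ⟶ X) [IsOpenImmersion w.left] [Nonempty W.left]
    (j : W.left ⟶ 𝔸(n; Spec (CommRingCat.of k))) [IsOpenImmersion j]
    (hj : j ≫ (𝔸(n; Spec (CommRingCat.of k)) ↘ Spec (CommRingCat.of k)) = W.hom)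
    (c : Pic (X ⊗ Y).left) :
    ∃ (a : Pic X.left) (b : Pic Y.left), c = pull (fst X Y).left a * pull (snd X Y).left b := by
  obtain ⟨d, hd⟩ := K395.PicRat.exists_pull W Y j hj hY (pull (w ▷ Y).left c)
  set N : Pic (X ⊗ Y).left := c * (pull (snd X Y).left d)⁻¹ with hN
  have h1 : pull (w ▷ Y).left N = 1 := by
    rw [hN, map_mul, map_inv, ← hd, ← pull_comp, ← Over.comp_left]
    have : w ▷ Y ≫ snd X Y = snd W Y := whiskerRight_snd _ _
    rw [this, mul_inv_cancel]
  suffices h : ∃ a : Pic X.left, pull (fst X Y).left a = N by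
    obtain ⟨a, ha⟩ := h
    exact ⟨a, d, by rw [ha, hN, inv_mul_cancel_right]⟩
  generalize N = N at h1
  obtain ⟨L, hL, rfl⟩ := exists_mk N
  have hXn : IsLocallyNoetherian X.left := LocallyOfFiniteType.isLocallyNoetherian X.hom
  have hg : GeometricallyIntegral Y.hom := geometricallyIntegral Y.hom
  have h2 : (fst X Y).left = pullback.fst X.hom Y.hom := rfl
  have h3 : Flat (fst X Y).left := by rw [h2]; infer_instance
  have h4 : LocallyOfFiniteType (fst X Y).left := by rw [h2]; infer_instance
  have h5 : GeometricallyIntegral (fst X Y).left := by rw [h2]; infer_instance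
  have h7 : IsLocallyNoetherian (X ⊗ Y).left := LocallyOfFiniteType.isLocallyNoetherian (fst X Y).left
  have h8 : LocallyOfFinitePresentation (fst X Y).left := inferInstance
  obtain ⟨M, hM, ⟨e⟩⟩ := Groth.Agent.S3840.result (fst X Y).left (Or.inr (fst X Y).left.isOpenMap) hX
    (fun y _ => inferInstance) L hL (fun ξ hξ => by
      have hg : ξ ∈ Set.range w.left := by
        rw [← hξ _ (genericPoint_specializes ξ)]
        exact (genericPoint_spec X.left).mem_open_set_iff w.left.isOpenEmbedding.isOpen_range |>.2
          (by simpa using Set.range_nonempty w.left)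
      have hpb : IsPullback (w ▷ Y).left (fst W Y).left (fst X Y).left w.left :=
        Groth.Agent.Sga3C.SchemImage.isPullback_whiskerRight_left w Y
      have hop : IsOpenImmersion (w ▷ Y).left := MorphismProperty.of_isPullback hpb.flip ‹_›
      have hle : Set.range ((fst X Y).left.fiberι ξ) ⊆ Set.range (w ▷ Y).left := by
        rw [Scheme.Hom.range_fiberι]
        intro z hz
        obtain ⟨x, hx⟩ := hg
        obtain ⟨t, ht, -⟩ := Scheme.exists_preimage_of_isPullback hpb z x (by rw [hx]; exact hz)
        exact ⟨t, ht⟩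
      have h9 : pull ((fst X Y).left.fiberι ξ) (mk L hL) = 1 := by
        rw [← IsOpenImmersion.lift_fac (w ▷ Y).left ((fst X Y).left.fiberι ξ) hle, pull_comp, h1, map_one]
      rwa [pull_mk, mk_eq_one_iff] at h9)
  exact ⟨mk M hM, by rw [pull_mk, mk_eq_iff]; exact ⟨e⟩⟩

section restrict

variable {X Y : Over (Spec (CommRingCat.of k))}

/-- The spectrum of a field has trivial Picard group. -/
theorem pic_unit (c : Pic (𝟙_ (Over (Spec (CommRingCat.of k)))).left) : c = 1 :=
  K395.PicRat.trivial_of_openImm (R := k) (𝟙 (Spec (CommRingCat.of k))) c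

theorem pull_const (x : 𝟙_ (Over (Spec (CommRingCat.of k))) ⟶ X) (a : Pic X.left)
    (T : Over (Spec (CommRingCat.of k))) : pull (toUnit T ≫ x).left a = 1 := by
  rw [Over.comp_left, pull_comp, pic_unit (pull x.left a), map_one]

/-- Restriction of `p₁^* a * p₂^* b` to `x × Y`. -/
theorem restrict_snd (x : 𝟙_ (Over (Spec (CommRingCat.of k))) ⟶ X) (a : Pic X.left) (b : Pic Y.left) :
    pull (lift (toUnit Y ≫ x) (𝟙 Y)).left (pull (fst X Y).left a * pull (snd X Y).left b) = b := by
  rw [map_mul, ← pull_comp, ← pull_comp, ← Over.comp_left, ← Over.comp_left, lift_fst, lift_snd,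
    pull_const, _root_.one_mul, Over.id_left, pull_id]

/-- Restriction of `p₁^* a * p₂^* b` to `X × y`. -/
theorem restrict_fst (y : 𝟙_ (Over (Spec (CommRingCat.of k))) ⟶ Y) (a : Pic X.left) (b : Pic Y.left) :
    pull (lift (𝟙 X) (toUnit X ≫ y)).left (pull (fst X Y).left a * pull (snd X Y).left b) = a := by
  rw [map_mul, ← pull_comp, ← pull_comp, ← Over.comp_left, ← Over.comp_left, lift_fst, lift_snd,
    pull_const, _root_.mul_one, Over.id_left, pull_id]

end restrict

end K407.PicProd
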