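import Groth.Agent.S16121
import Groth.Agent.Books.AlgPtsSmooth

/-!
# Rational charts

`exists_chart_of_rat`: a rational variety has a nonempty open subscheme which is open in an affine space, in the
form used by `K395.PicRat`; `exists_chart`: the case of connected linear groups.
-/

set_option autoImplicit false

universe u

open CategoryTheory MonoidalCategory CartesianMonoidalCategory MonObj GrpObj AlgebraicGeometry Limits

namespace K407.Chart

variable {k : Type u} [Field k]

/-- The rationality hypothesis in terms of `Over` objects. -/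
theorem exists_chart_of_rat (X : Over (Spec (CommRingCat.of k)))
    (hrat : ∃ (U : X.left.Opens) (n : ℕ) (V : (𝔸(ULift.{u} (Fin n); Spec (CommRingCat.of k))).Opens)
      (e : (U : Scheme.{u}) ≅ (V : Scheme.{u})), (U : Set ↥X.left).Nonempty ∧
        e.hom ≫ V.ι ≫ (𝔸(ULift.{u} (Fin n); Spec (CommRingCat.of k)) ↘ Spec (CommRingCat.of k)) = U.ι ≫ X.hom) :
    ∃ (n : ℕ) (W : Over (Spec (CommRingCat.of k))) (w : W ⟶ X)
      (j : W.left ⟶ 𝔸(ULift.{u} (Fin n); Spec (CommRingCat.of k))), IsOpenImmersion w.left ∧ Nonempty W.left ∧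
      IsOpenImmersion j ∧ j ≫ (𝔸(ULift.{u} (Fin n); Spec (CommRingCat.of k)) ↘ Spec (CommRingCat.of k)) = W.hom := by
  obtain ⟨U, n, V, e, ⟨x, hx⟩, he⟩ := hrat
  refine ⟨n, Over.mk (U.ι ≫ X.hom), Over.homMk U.ι, e.hom ≫ V.ι, ?_, ⟨(⟨x, hx⟩ : U)⟩, ?_, ?_⟩
  · exact inferInstanceAs (IsOpenImmersion U.ι)
  · exact inferInstanceAs (IsOpenImmersion (e.hom ≫ V.ι))
  · rw [Category.assoc]
    exact he

theorem exists_chart [IsAlgClosed k] (G : Over (Spec (CommRingCat.of k))) [GrpObj G] [IsAffine G.left]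
    [Smooth G.hom] [ConnectedSpace ↥G.left] :
    ∃ (n : ℕ) (W : Over (Spec (CommRingCat.of k))) (w : W ⟶ G)
      (j : W.left ⟶ 𝔸(ULift.{u} (Fin n); Spec (CommRingCat.of k))), IsOpenImmersion w.left ∧ Nonempty W.left ∧
      IsOpenImmersion j ∧ j ≫ (𝔸(ULift.{u} (Fin n); Spec (CommRingCat.of k)) ↘ Spec (CommRingCat.of k)) = W.hom :=
  exists_chart_of_rat G (Groth.Agent.S16121.result k G)

theorem isIntegral_of_connected [IsAlgClosed k] (G : Over (Spec (CommRingCat.of k))) [GrpObj G] [IsAffine G.left]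
    [Smooth G.hom] [ConnectedSpace ↥G.left] : IsIntegral G.left :=
  (Groth.Agent.Books.AlgPtsSmooth.isVar_of_smooth G).isIntegral

end K407.Chart
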