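import Groth.Agent.AlgGrp.K407.PicProd
import Groth.Agent.AlgGrp.K407.Chart
import Groth.Agent.AlgGrp.K395.Transl
import Groth.Agent.Sga4B.SmoothNormal

/-!
# The Picard group of a product with a connected linear group; actions

* `exists_mul`: `Pic (G × X) = Pic G × Pic X` for `G` connected linear, `X` normal;
* `exists_act`: `σ^* c = p₁^* b · p₂^* c` for an action `σ` of `G` on `X`.
-/

set_option autoImplicit false
universe u
open CategoryTheory Limits MonoidalCategory CartesianMonoidalCategory MonObj AlgebraicGeometry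
open Groth.Agent.Grpsch.PicGrp

namespace K407.ActPic

variable {k : Type u} [Field k] [IsAlgClosed k]

theorem exists_mul (G X : Over (Spec (CommRingCat.of k))) [GrpObj G] [IsAffine G.left] [Smooth G.hom]
    [ConnectedSpace ↥G.left] [IsIntegral X.left] [LocallyOfFiniteType X.hom] (hX : Pi1.IsNormalScheme X.left)
    (c : Pic (G ⊗ X).left) :
    ∃ (a : Pic G.left) (b : Pic X.left), c = pull (fst G X).left a * pull (snd G X).left b := by
  obtain ⟨n, W, w, j, hw, hne, hj, hjo⟩ := K407.Chart.exists_chart G
  have hint : IsIntegral G.left := K407.Chart.isIntegral_of_connected G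
  exact PicProd.exists_mul (Groth.Agent.Sga4B.SmoothNormal.isNormalScheme_of_smooth G.hom) hX w j hjo c

theorem exists_act (G X : Over (Spec (CommRingCat.of k))) [GrpObj G] [IsAffine G.left] [Smooth G.hom]
    [ConnectedSpace ↥G.left] [IsIntegral X.left] [LocallyOfFiniteType X.hom] (hX : Pi1.IsNormalScheme X.left)
    (a : AlgGrp.Action G X) (c : Pic X.left) :
    ∃ b : Pic G.left, pull a.act.left c = pull (fst G X).left b * pull (snd G X).left c := by
  obtain ⟨b, d, h⟩ := exists_mul G X hX (pull a.act.left c)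
  have h2 := congrArg (pull (lift (toUnit X ≫ (1 : 𝟙_ _ ⟶ G)) (𝟙 X)).left) h
  rw [PicProd.restrict_snd, ← pull_comp, ← Over.comp_left] at h2
  have h3 : lift (toUnit X ≫ (1 : 𝟙_ _ ⟶ G)) (𝟙 X) ≫ a.act = 𝟙 X := K395.Transl.tr_one a
  rw [h3, Over.id_left, pull_id] at h2
  exact ⟨b, by rw [h, h2]⟩

end K407.ActPic
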