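import Mathlib.RingTheory.TensorProduct.MvPolynomial
import Mathlib.RingTheory.Localization.BaseChange
import Mathlib.Algebra.MonoidAlgebra.Basic
import Mathlib.AlgebraicGeometry.AffineSpace
import Mathlib.RingTheory.Localization.Away.Basic

/-!
# Localizations of polynomial rings

`IsLocPoly K R`: the `K`-algebra `R` is a localization `K[x₁, …, xₙ]_f` of a polynomial ring.

* `isLocPoly_group`: the group algebra `K[ℤ^r]`;
* `IsLocPoly.tensor`: stability under tensor product with a polynomial ring;
* `IsLocPoly.exists_openImmersion`: the open immersion `Spec R ⟶ 𝔸ⁿ`.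
-/

set_option autoImplicit false

universe u v

open TensorProduct AlgebraicGeometry CategoryTheory

namespace K407.LocPoly

section

variable (K : Type u) [CommRing K]

/-- `R` is a localization of a polynomial ring over `K` at one element. -/
def IsLocPoly (R : Type v) [CommRing R] [Algebra K R] : Prop :=
  ∃ (n : ℕ) (f : MvPolynomial (Fin n) K), Nonempty (R ≃ₐ[K] Localization.Away f)

variable {K}

lemma IsLocPoly.of_equiv {R S : Type*} [CommRing R] [Algebra K R] [CommRing S] [Algebra K S]
    (h : IsLocPoly K R) (e : S ≃ₐ[K] R) : IsLocPoly K S := by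
  obtain ⟨n, f, ⟨e'⟩⟩ := h
  exact ⟨n, f, ⟨e.trans e'⟩⟩

/-- Localizations along an isomorphism. -/
noncomputable def awayEquiv {A B : Type*} [CommRing A] [Algebra K A] [CommRing B] [Algebra K B]
    (e : A ≃ₐ[K] B) (f : A) : Localization.Away f ≃ₐ[K] Localization.Away (e f) :=
  IsLocalization.algEquivOfAlgEquiv (M := Submonoid.powers f) (T := Submonoid.powers (e f))
    (Localization.Away f) (Localization.Away (e f)) e (Submonoid.map_powers _ _)

lemma isLocPoly_away {n : ℕ} {ι : Type*} (e : ι ≃ Fin n) (f : MvPolynomial ι K) :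
    IsLocPoly K (Localization.Away f) :=
  ⟨n, MvPolynomial.renameEquiv K e f, ⟨awayEquiv (MvPolynomial.renameEquiv K e) f⟩⟩

lemma IsLocPoly.tensor {R : Type*} [CommRing R] [Algebra K R] (h : IsLocPoly K R) (m : ℕ) :
    IsLocPoly K (MvPolynomial (Fin m) K ⊗[K] R) := by
  obtain ⟨n, f, ⟨e⟩⟩ := h
  let e1 : MvPolynomial (Fin m) K ⊗[K] R ≃ₐ[K] MvPolynomial (Fin m) K ⊗[K] Localization.Away f :=
    Algebra.TensorProduct.congr AlgEquiv.refl e
  let e2 : MvPolynomial (Fin m) K ⊗[K] Localization.Away f ≃ₐ[K]
      Localization.Away ((1 : MvPolynomial (Fin m) K) ⊗ₜ[K] f) :=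
    (IsLocalization.Away.tensorProductEquivTMulRight K (MvPolynomial (Fin m) K) f
      (Localization.Away f)).restrictScalars K
  let e3 : MvPolynomial (Fin m) K ⊗[K] MvPolynomial (Fin n) K ≃ₐ[K] MvPolynomial (Fin m ⊕ Fin n) K :=
    MvPolynomial.tensorEquivSum K (Fin m) (Fin n) K
  exact (isLocPoly_away finSumFinEquiv _).of_equiv ((e1.trans e2).trans (awayEquiv e3 _))

end

section Group

variable (K : Type u) [CommRing K] (r : ℕ)

/-- The product of the coordinates. -/
noncomputable def prodX : MvPolynomial (Fin r) K := ∏ i, MvPolynomial.X i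

/-- The coordinates as units of the localization. -/
noncomputable def uX (i : Fin r) : (Localization.Away (prodX K r))ˣ :=
  (isUnit_of_dvd_unit (map_dvd (algebraMap (MvPolynomial (Fin r) K) (Localization.Away (prodX K r)))
    (Finset.dvd_prod_of_mem _ (Finset.mem_univ i)))
    (IsLocalization.Away.algebraMap_isUnit (prodX K r))).unit

lemma uX_val (i : Fin r) : (uX K r i : Localization.Away (prodX K r)) =
    algebraMap (MvPolynomial (Fin r) K) _ (MvPolynomial.X i) := rfl

/-- Monomials. -/
noncomputable def monoHom : Multiplicative (Fin r → ℤ) →* (Localization.Away (prodX K r))ˣ where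
  toFun m := ∏ i, uX K r i ^ (Multiplicative.toAdd m i)
  map_one' := by simp
  map_mul' m n := by
    rw [← Finset.prod_mul_distrib]
    refine Finset.prod_congr rfl fun i _ => ?_
    rw [toAdd_mul, Pi.add_apply, zpow_add]

/-- `K[ℤ^r] → K[x]_{∏ x}`. -/
noncomputable def toLoc : MonoidAlgebra K (Multiplicative (Fin r → ℤ)) →ₐ[K]
    Localization.Away (prodX K r) :=
  MonoidAlgebra.lift K _ _ ((Units.coeHom _).comp (monoHom K r))

/-- The units of `K[ℤ^r]` given by `ℤ^r`. -/
noncomputable def unitHom : Multiplicative (Fin r → ℤ) →*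
    (MonoidAlgebra K (Multiplicative (Fin r → ℤ)))ˣ :=
  (MonoidAlgebra.of K (Multiplicative (Fin r → ℤ))).toHomUnits

lemma unitHom_val (m : Multiplicative (Fin r → ℤ)) :
    (unitHom K r m : MonoidAlgebra K (Multiplicative (Fin r → ℤ))) = MonoidAlgebra.single m 1 := rfl

/-- The polynomial ring inside `K[ℤ^r]`. -/
noncomputable def polyTo : MvPolynomial (Fin r) K →ₐ[K] MonoidAlgebra K (Multiplicative (Fin r → ℤ)) :=
  MvPolynomial.aeval fun i => MonoidAlgebra.single (Multiplicative.ofAdd (Pi.single i 1)) 1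

lemma isUnit_polyTo : IsUnit (polyTo K r (prodX K r)) := by
  rw [prodX, map_prod]
  refine IsUnit.prod_univ_iff.2 fun i => ?_
  rw [polyTo, MvPolynomial.aeval_X, ← unitHom_val]
  exact Units.isUnit _

/-- `K[x]_{∏ x} → K[ℤ^r]`. -/
noncomputable def ofLoc : Localization.Away (prodX K r) →ₐ[K]
    MonoidAlgebra K (Multiplicative (Fin r → ℤ)) :=
  IsLocalization.liftAlgHom (M := Submonoid.powers (prodX K r)) (f := polyTo K r) (by
    rintro ⟨_, n, rfl⟩
    rw [map_pow]
    exact (isUnit_polyTo K r).pow n)

lemma ofLoc_algebraMap (p : MvPolynomial (Fin r) K) :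
    ofLoc K r (algebraMap _ _ p) = polyTo K r p := by
  rw [ofLoc, IsLocalization.liftAlgHom_apply, IsLocalization.lift_eq]
  rfl

lemma map_uX (i : Fin r) : Units.map (ofLoc K r : Localization.Away (prodX K r) →* _) (uX K r i) =
    unitHom K r (Multiplicative.ofAdd (Pi.single i 1)) := by
  ext1
  rw [Units.coe_map, unitHom_val]
  change ofLoc K r (uX K r i : Localization.Away (prodX K r)) = _
  rw [uX_val, ofLoc_algebraMap, polyTo, MvPolynomial.aeval_X]

lemma map_monoHom (m : Multiplicative (Fin r → ℤ)) :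
    Units.map (ofLoc K r : Localization.Away (prodX K r) →* _) (monoHom K r m) = unitHom K r m := by
  change Units.map _ (∏ i, uX K r i ^ (Multiplicative.toAdd m i)) = _
  rw [map_prod]
  simp_rw [map_zpow, map_uX]
  simp_rw [← map_zpow]
  rw [← map_prod]
  congr 1
  apply Multiplicative.toAdd.injective
  rw [toAdd_prod]
  simp_rw [toAdd_zpow, toAdd_ofAdd]
  ext i
  rw [Finset.sum_apply]
  simp [Pi.single_apply]

/-- The group algebra of `ℤ^r` is a localization of a polynomial ring. -/
noncomputable def groupEquiv : MonoidAlgebra K (Multiplicative (Fin r → ℤ)) ≃ₐ[K]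
    Localization.Away (prodX K r) :=
  AlgEquiv.ofAlgHom (toLoc K r) (ofLoc K r) (by
    apply IsLocalization.algHom_ext (Submonoid.powers (prodX K r))
    apply MvPolynomial.algHom_ext
    intro i
    change toLoc K r (ofLoc K r (algebraMap _ _ (MvPolynomial.X i))) = algebraMap _ _ (MvPolynomial.X i)
    rw [ofLoc_algebraMap, polyTo, MvPolynomial.aeval_X, toLoc, MonoidAlgebra.lift_single, one_smul]
    change ((∏ j, uX K r j ^ ((Pi.single i 1 : Fin r → ℤ) j) : (Localization.Away (prodX K r))ˣ) :
      Localization.Away (prodX K r)) = _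
    rw [Finset.prod_eq_single i]
    · rw [Pi.single_eq_same, zpow_one, uX_val]
    · intro j _ hj
      rw [Pi.single_eq_of_ne hj, zpow_zero]
    · intro h
      exact absurd (Finset.mem_univ i) h) (by
    apply MonoidAlgebra.algHom_ext
    · intro m
      change ofLoc K r (toLoc K r (MonoidAlgebra.single m 1)) = MonoidAlgebra.single m 1
      rw [toLoc, MonoidAlgebra.lift_single, one_smul]
      have := congrArg Units.val (map_monoHom K r m)
      rw [unitHom_val] at this
      exact this
    · ext)

theorem isLocPoly_group : IsLocPoly K (MonoidAlgebra K (Multiplicative (Fin r → ℤ))) :=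
  ⟨r, prodX K r, ⟨groupEquiv K r⟩⟩

end Group

section Scheme

variable {K : Type u} [CommRing K]

/-- Localizations of polynomial rings are open in affine space. -/
theorem exists_openImmersion_aux {R B : Type u} [CommRing R] [Algebra K R] [CommRing B] [Algebra K B]
    (n : ℕ) (f : MvPolynomial (ULift.{u} (Fin n)) K) [Algebra (MvPolynomial (ULift.{u} (Fin n)) K) B]
    [IsScalarTower K (MvPolynomial (ULift.{u} (Fin n)) K) B] [IsLocalization.Away f B]
    (e : B ≃ₐ[K] R) :
    ∃ (j : Spec (CommRingCat.of R) ⟶ 𝔸(ULift.{u} (Fin n); Spec (CommRingCat.of K))),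
      IsOpenImmersion j ∧ j ≫ (𝔸(ULift.{u} (Fin n); Spec (CommRingCat.of K)) ↘ Spec (CommRingCat.of K)) =
        Spec.map (CommRingCat.ofHom (algebraMap K R)) := by
  let a : Spec (CommRingCat.of R) ⟶ Spec (CommRingCat.of B) :=
    Spec.map (e.toRingEquiv.toCommRingCatIso).hom
  let b : Spec (CommRingCat.of B) ⟶ Spec (CommRingCat.of (MvPolynomial (ULift.{u} (Fin n)) K)) :=
    Spec.map (CommRingCat.ofHom (algebraMap (MvPolynomial (ULift.{u} (Fin n)) K) B))
  have hb : IsOpenImmersion b := IsOpenImmersion.of_isLocalization f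
  have hab : a ≫ b ≫ Spec.map (CommRingCat.ofHom MvPolynomial.C) =
      Spec.map (CommRingCat.ofHom (algebraMap K R)) := by
    rw [← Spec.map_comp, ← Spec.map_comp]
    congr 1
    ext x
    change e (algebraMap _ _ (MvPolynomial.C x)) = algebraMap K R x
    rw [← MvPolynomial.algebraMap_eq, ← IsScalarTower.algebraMap_apply, AlgEquiv.commutes]
  refine ⟨a ≫ b ≫ (AffineSpace.SpecIso (ULift.{u} (Fin n)) (CommRingCat.of K)).inv,
    inferInstance, ?_⟩
  rw [Category.assoc, Category.assoc, AffineSpace.SpecIso_inv_over]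
  exact hab

/-- A localization of a polynomial ring is open in an affine space. -/
theorem IsLocPoly.exists_openImmersion {R : Type u} [CommRing R] [Algebra K R] (h : IsLocPoly K R) :
    ∃ (n : ℕ) (j : Spec (CommRingCat.of R) ⟶ 𝔸(ULift.{u} (Fin n); Spec (CommRingCat.of K))),
      IsOpenImmersion j ∧ j ≫ (𝔸(ULift.{u} (Fin n); Spec (CommRingCat.of K)) ↘ Spec (CommRingCat.of K)) =
        Spec.map (CommRingCat.ofHom (algebraMap K R)) := by
  obtain ⟨n, f, ⟨e⟩⟩ := h
  exact ⟨n, exists_openImmersion_aux n (MvPolynomial.renameEquiv K Equiv.ulift.symm f)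
    (e.trans (awayEquiv (MvPolynomial.renameEquiv K Equiv.ulift.symm) f)).symm⟩

end Scheme

end K407.LocPoly
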