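import Mathlib.RingTheory.Ideal.Operations
import Mathlib.RingTheory.Ideal.Maps
import Mathlib.RingTheory.Ideal.Maximal
import Mathlib.Tactic

/-!
# Invertible ideals of a domain

`IsInv I`: `I * J = (z)` with `z ≠ 0` for some `J`.
-/

set_option autoImplicit false

namespace K407.IdealInv

variable {A : Type*} [CommRing A]

/-- Invertible ideals. -/
def IsInv (I : Ideal A) : Prop := ∃ (J : Ideal A) (z : A), z ≠ 0 ∧ I * J = Ideal.span {z}

variable {I J K : Ideal A}

theorem inv_span {z : A} (hz : z ≠ 0) : IsInv (Ideal.span {z}) := ⟨⊤, z, hz, Ideal.mul_top _⟩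

variable [IsDomain A]

theorem inv_top : IsInv (⊤ : Ideal A) := ⟨⊤, 1, one_ne_zero, by rw [Ideal.mul_top, Ideal.span_singleton_one]⟩

theorem IsInv.mul (hI : IsInv I) (hJ : IsInv J) : IsInv (I * J) := by
  obtain ⟨I', z, hz, h⟩ := hI
  obtain ⟨J', w, hw, h'⟩ := hJ
  exact ⟨I' * J', z * w, mul_ne_zero hz hw, by rw [mul_mul_mul_comm, h, h', Ideal.span_singleton_mul_span_singleton]⟩

theorem IsInv.pow (hI : IsInv I) (n : ℕ) : IsInv (I ^ n) := by
  induction n with
  | zero => rw [pow_zero, Ideal.one_eq_top]; exact inv_top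
  | succ n ih => rw [pow_succ]; exact ih.mul hI

theorem IsInv.of_mul (h : IsInv (I * J)) : IsInv I := by
  obtain ⟨K, z, hz, h⟩ := h
  exact ⟨J * K, z, hz, by rw [← mul_assoc, h]⟩

theorem IsInv.cancel_le (hI : IsInv I) (h : I * J ≤ I * K) : J ≤ K := by
  obtain ⟨I', z, hz, hI⟩ := hI
  have h1 : I' * (I * J) ≤ I' * (I * K) := Ideal.mul_mono_right h
  rw [← mul_assoc, ← mul_assoc, mul_comm I', hI] at h1
  exact (Ideal.span_singleton_mul_right_mono hz).1 h1

theorem IsInv.cancel (hI : IsInv I) (h : I * J = I * K) : J = K :=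
  le_antisymm (hI.cancel_le h.le) (hI.cancel_le h.ge)

theorem IsInv.ne_bot (hI : IsInv I) : I ≠ ⊥ := by
  rintro rfl
  obtain ⟨J, z, hz, h⟩ := hI
  rw [Ideal.bot_mul, eq_comm, Ideal.span_singleton_eq_bot] at h
  exact hz h

theorem IsInv.exists_mul_eq (hI : IsInv I) (h : K ≤ I) : ∃ D : Ideal A, K = I * D := by
  have hI' := hI
  obtain ⟨J, z, hz, h1⟩ := hI'
  let D : Ideal A := Submodule.comap (LinearMap.mulLeft A z) (K * J)
  have h2 : Ideal.span {z} * D = K * J := by
    apply le_antisymm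
    · rw [Ideal.mul_le]
      intro r hr s hs
      obtain ⟨t, rfl⟩ := Ideal.mem_span_singleton'.1 hr
      rw [mul_assoc]
      exact Ideal.mul_mem_left _ _ hs
    · intro w hw
      have h3 : w ∈ Ideal.span {z} := by rw [← h1]; exact Ideal.mul_mono_left h hw
      obtain ⟨t, rfl⟩ := Ideal.mem_span_singleton'.1 h3
      rw [mul_comm t z] at hw ⊢
      exact Ideal.mul_mem_mul (Ideal.mem_span_singleton_self z) hw
  refine ⟨D, (inv_span hz).cancel ?_⟩
  rw [mul_left_comm, h2, mul_left_comm, h1, mul_comm]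

theorem IsInv.map {B F : Type*} [CommRing B] [IsDomain B] [FunLike F A B] [RingHomClass F A B] {φ : F}
    (hφ : Function.Injective φ) (hI : IsInv I) : IsInv (I.map φ) := by
  obtain ⟨J, z, hz, h⟩ := hI
  refine ⟨J.map φ, φ z, (map_ne_zero_iff φ hφ).2 hz, ?_⟩
  rw [← Ideal.map_mul, h, Ideal.map_span, Set.image_singleton]

theorem IsInv.not_le_mul (hI : IsInv I) {m : Ideal A} (hm : m ≠ ⊤) : ¬ I ≤ m * I := by
  intro h
  apply hm
  rw [mul_comm] at h
  nth_rw 1 [← Ideal.mul_top I] at h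
  exact top_le_iff.1 (hI.cancel_le h)

/-- An element outside `m I` generates `I` modulo `m I`. -/
theorem IsInv.le_sup (hI : IsInv I) {m : Ideal A} (hm : m.IsMaximal) {t : A} (ht : t ∈ I) (htm : t ∉ m * I) :
    I ≤ Ideal.span {t} ⊔ m * I := by
  obtain ⟨D, hD⟩ := hI.exists_mul_eq (K := Ideal.span {t}) (by
    rw [Ideal.span_le, Set.singleton_subset_iff]; exact ht)
  have h1 : ¬ D ≤ m := fun h => htm (by
    have h2 : t ∈ Ideal.span {t} := Ideal.mem_span_singleton_self t
    rw [hD] at h2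
    rw [mul_comm]
    exact Ideal.mul_mono_right h h2)
  have h2 : D ⊔ m = ⊤ := by
    refine hm.out.2 _ (lt_of_le_of_ne le_sup_right ?_)
    intro h
    exact h1 (le_sup_left.trans h.ge)
  rw [hD, mul_comm m I, ← Ideal.mul_sup, h2, Ideal.mul_top]

/-- An element outside all `m I` generates `I`. -/
theorem IsInv.eq_span (hI : IsInv I) {d : A} (hd : d ∈ I) (h : ∀ m : Ideal A, m.IsMaximal → d ∉ m * I) :
    I = Ideal.span {d} := by
  obtain ⟨D, hD⟩ := hI.exists_mul_eq (K := Ideal.span {d}) (by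
    rw [Ideal.span_le, Set.singleton_subset_iff]; exact hd)
  have h1 : D = ⊤ := by
    by_contra hne
    obtain ⟨m, hm, hle⟩ := Ideal.exists_le_maximal D hne
    refine h m hm ?_
    have h2 : d ∈ Ideal.span {d} := Ideal.mem_span_singleton_self d
    rw [hD] at h2
    rw [mul_comm]
    exact Ideal.mul_mono_right hle h2
  rw [hD, h1, Ideal.mul_top]

theorem IsInv.pow_le_sup (hI : IsInv I) {m : Ideal A} (hm : m.IsMaximal) {t : A} (ht : t ∈ I) (htm : t ∉ m * I)
    (n : ℕ) : I ^ n ≤ Ideal.span {t ^ n} ⊔ m * I ^ n := by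
  induction n with
  | zero => simp
  | succ n ih =>
    calc I ^ (n + 1) = I ^ n * I := pow_succ _ _
      _ ≤ (Ideal.span {t ^ n} ⊔ m * I ^ n) * (Ideal.span {t} ⊔ m * I) := Ideal.mul_mono ih (hI.le_sup hm ht htm)
      _ ≤ Ideal.span {t ^ (n + 1)} ⊔ m * I ^ (n + 1) := by
        have ht' : Ideal.span {t} ≤ I := by rw [Ideal.span_le, Set.singleton_subset_iff]; exact ht
        have htn : Ideal.span {t ^ n} ≤ I ^ n := by
          rw [Ideal.span_le, Set.singleton_subset_iff]; exact Ideal.pow_mem_pow ht n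
        have hmI : m * I ≤ I := Ideal.mul_le_right
        rw [Ideal.sup_mul, Ideal.mul_sup, Ideal.mul_sup, Ideal.span_singleton_mul_span_singleton, ← pow_succ]
        refine sup_le (sup_le le_sup_left (le_sup_of_le_right ?_)) (sup_le (le_sup_of_le_right ?_)
          (le_sup_of_le_right ?_))
        · calc Ideal.span {t ^ n} * (m * I) ≤ I ^ n * (m * I) := Ideal.mul_mono_left htn
            _ = m * I ^ (n + 1) := by rw [pow_succ]; ring
        · calc m * I ^ n * Ideal.span {t} ≤ m * I ^ n * I := Ideal.mul_mono_right ht'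
            _ = m * I ^ (n + 1) := by rw [pow_succ]; ring
        · calc m * I ^ n * (m * I) ≤ m * I ^ n * I := Ideal.mul_mono_right hmI
            _ = m * I ^ (n + 1) := by rw [pow_succ]; ring

theorem IsInv.pow_notMem (hI : IsInv I) {m : Ideal A} (hm : m.IsMaximal) {t : A} (ht : t ∈ I) (htm : t ∉ m * I)
    (n : ℕ) : t ^ n ∉ m * I ^ n := by
  intro h
  refine (hI.pow n).not_le_mul hm.ne_top ((hI.pow_le_sup hm ht htm n).trans (sup_le ?_ le_rfl))
  rw [Ideal.span_le, Set.singleton_subset_iff]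
  exact h

end K407.IdealInv
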