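import Groth.Agent.Fga.ZeroClass
import Groth.Agent.Sga7.H591.Dcl
import Groth.Agent.Flat2D.PicZSch
import Groth.Agent.Divis.BlowUpFormal
import Groth.Agent.Picfga.ZeroHom
import Groth.Agent.AlgGrp.K407.IdealInv

/-!
# Picard groups of affine integral schemes and invertible ideals

`R` a domain; `idl D` the ideal of `R` attached to an ideal sheaf `D` on `Spec R`.

* `idl_mul`, `idl_comap`, `exists_idl`;
* `isEff_iff`: `D` is effective Cartier iff `idl D` is invertible;
* `exists_dcl`: every class in `Pic (Spec R)` is the class of an invertible ideal;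
* `dcl_eq_iff`: `[D] = [E]` iff `x D = y E` with `x, y ≠ 0`.
-/

set_option autoImplicit false
universe u
open CategoryTheory CategoryTheory.Limits AlgebraicGeometry Opposite TopologicalSpace

namespace K407.AffPic

open Groth.Agent.Grpsch.PicGrp Groth.Agent.Sga7.H591.Dcl Groth.Agent.Divis.EffCartier
open Groth.Agent.Fdesc.LocGen Groth.Agent.Dix.IdealModCartier Groth.Agent.Picfga.ZeroDef
open Groth.Agent.Divis.IdealComap Groth.Agent.Divis.BlowUpFormal K407.IdealInv

variable {R S : Type u} [CommRing R] [CommRing S]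

/-- The ideal attached to an ideal sheaf on `Spec R`. -/
noncomputable def idl (D : (Spec (CommRingCat.of R)).IdealSheafData) : Ideal R :=
  (D.ideal ⟨⊤, isAffineOpen_top _⟩).map (Scheme.ΓSpecIso (CommRingCat.of R)).hom.hom

theorem idl_mul (D E : (Spec (CommRingCat.of R)).IdealSheafData) : idl (D * E) = idl D * idl E := by
  rw [idl, idl, idl, ← Ideal.map_mul]
  simp only [Scheme.IdealSheafData.ideal_mul, Pi.mul_apply]

theorem idl_comap (φ : R →+* S) (D : (Spec (CommRingCat.of R)).IdealSheafData) :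
    idl (D.comap (Spec.map (CommRingCat.ofHom φ))) = (idl D).map φ := by
  rw [idl, idl, ideal_comap_top, Ideal.map_map, Ideal.map_map]
  congr 1
  have h := Scheme.ΓSpecIso_naturality (CommRingCat.ofHom φ)
  have h2 := congrArg CommRingCat.Hom.hom h
  exact h2

theorem idl_injective : Function.Injective (idl (R := R)) := by
  intro D E h
  apply Scheme.IdealSheafData.ext_of_isAffine
  exact map_injective_of_isIso (Scheme.ΓSpecIso (CommRingCat.of R)).hom h

theorem exists_idl (I : Ideal R) : ∃ D : (Spec (CommRingCat.of R)).IdealSheafData, idl D = I := by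
  refine ⟨Scheme.IdealSheafData.ofIdealTop (I.map (Scheme.ΓSpecIso (CommRingCat.of R)).inv.hom), ?_⟩
  have h : (Scheme.IdealSheafData.ofIdealTop (I.map (Scheme.ΓSpecIso (CommRingCat.of R)).inv.hom)).ideal
      ⟨⊤, isAffineOpen_top _⟩ = I.map (Scheme.ΓSpecIso (CommRingCat.of R)).inv.hom := by
    have := Scheme.IdealSheafData.equivOfIsAffine.apply_symm_apply
      (I.map (Scheme.ΓSpecIso (CommRingCat.of R)).inv.hom)
    exact this
  rw [idl, h, Ideal.map_map, ← CommRingCat.hom_comp, Iso.inv_hom_id]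
  exact Ideal.map_id I

theorem ideal_top_eq (D : (Spec (CommRingCat.of R)).IdealSheafData) :
    D.ideal ⟨⊤, isAffineOpen_top _⟩ = (idl D).map (Scheme.ΓSpecIso (CommRingCat.of R)).inv.hom := by
  rw [idl, Ideal.map_map, ← CommRingCat.hom_comp, Iso.hom_inv_id]
  exact (Ideal.map_id _).symm

theorem isEff_of_idl_eq_span [IsDomain R] {D : (Spec (CommRingCat.of R)).IdealSheafData} {z : R} (hz : z ≠ 0)
    (h : idl D = Ideal.span {z}) : BlowUp.IsEffCartierIdeal D := by
  intro x
  refine ⟨⟨⊤, isAffineOpen_top _⟩, trivial, (Scheme.ΓSpecIso (CommRingCat.of R)).inv.hom z, ?_, ?_⟩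
  · have hdom : IsDomain Γ(Spec (CommRingCat.of R), ⊤) := inferInstance
    rw [mem_nonZeroDivisors_iff_ne_zero]
    intro h0
    apply hz
    have h1 := congrArg (Scheme.ΓSpecIso (CommRingCat.of R)).hom.hom h0
    rw [map_zero, ← CommRingCat.comp_apply, Iso.inv_hom_id] at h1
    exact h1
  · rw [ideal_top_eq, h, Ideal.map_span, Set.image_singleton]

theorem isEff_of_isInv [IsDomain R] {D : (Spec (CommRingCat.of R)).IdealSheafData} (h : IsInv (idl D)) :
    BlowUp.IsEffCartierIdeal D := by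
  obtain ⟨J, z, hz, hJ⟩ := h
  obtain ⟨E, rfl⟩ := exists_idl J
  rw [← idl_mul] at hJ
  exact isEff_of_mul (isEff_of_idl_eq_span hz hJ)

theorem exists_span_of_dcl_eq_one [IsDomain R] {D : (Spec (CommRingCat.of R)).IdealSheafData}
    (hD : BlowUp.IsEffCartierIdeal D) (h : dcl D hD = 1) : ∃ z : R, z ≠ 0 ∧ idl D = Ideal.span {z} := by
  rw [dcl, mk_eq_one_iff] at h
  obtain ⟨e⟩ := h
  have h1 : IsGen (sec e.inv ⊤) := (isIso_iff_isGen e.inv).1 inferInstance
  obtain ⟨h2, h3⟩ := genOn_of_isGen h1 ⟨⊤, isAffineOpen_top _⟩ le_rfl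
  refine ⟨(Scheme.ΓSpecIso (CommRingCat.of R)).hom.hom (ores le_rfl (val D (sec e.inv ⊤))), ?_, ?_⟩
  · intro h4
    have hdom : IsDomain Γ(Spec (CommRingCat.of R), ⊤) := inferInstance
    rw [mem_nonZeroDivisors_iff_ne_zero] at h2
    apply h2
    have h5 := congrArg (Scheme.ΓSpecIso (CommRingCat.of R)).inv.hom h4
    rw [map_zero, ← CommRingCat.comp_apply, Iso.hom_inv_id] at h5
    exact h5
  · rw [idl, h3, Ideal.map_span, Set.image_singleton]

theorem dcl_eq_one_of_span [IsDomain R] {D : (Spec (CommRingCat.of R)).IdealSheafData}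
    (hD : BlowUp.IsEffCartierIdeal D) {z : R} (h : idl D = Ideal.span {z}) : dcl D hD = 1 := by
  have hz : z ≠ 0 := by
    rintro rfl
    obtain ⟨U, hxU, a, ha, hDU⟩ := hD (genericPoint (Spec (CommRingCat.of R)))
    have h0 : D = ⊥ := by
      apply idl_injective
      rw [h, idl]
      simp
    rw [h0] at hDU
    have hne : Nonempty U.1 := ⟨⟨_, hxU⟩⟩
    have hdom : IsDomain Γ(Spec (CommRingCat.of R), U.1) := inferInstance
    rw [mem_nonZeroDivisors_iff_ne_zero] at ha
    apply ha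
    rw [← Ideal.span_singleton_eq_bot, ← hDU]
    rfl
  rw [dcl, mk_eq_one_iff]
  have h1 : GenOn D ((Scheme.ΓSpecIso (CommRingCat.of R)).inv.hom z : Γ(Spec (CommRingCat.of R), ⊤)) := by
    refine genOn_of_affine (U := ⟨⊤, isAffineOpen_top _⟩) ?_ ?_
    · have hdom : IsDomain Γ(Spec (CommRingCat.of R), ⊤) := inferInstance
      rw [mem_nonZeroDivisors_iff_ne_zero]
      intro h0
      apply hz
      have h1 := congrArg (Scheme.ΓSpecIso (CommRingCat.of R)).hom.hom h0
      rw [map_zero, ← CommRingCat.comp_apply, Iso.inv_hom_id] at h1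
      exact h1
    · rw [ideal_top_eq, h, Ideal.map_span, Set.image_singleton]
  exact (idealMod_principal h1).map (·.symm)

theorem exists_section [IsDomain R] {M : (Spec (CommRingCat.of R)).Modules} (hM : PicF.IsInvertible M) :
    ∃ s : Γ(M, ⊤), s ≠ 0 := by
  obtain ⟨U, e, hxU, he⟩ := (isInvertible_iff M).mp hM (genericPoint (Spec (CommRingCat.of R)))
  obtain ⟨f, hf, hxf⟩ := (isAffineOpen_top (Spec (CommRingCat.of R))).exists_basicOpen_le (V := U)
    ⟨_, hxU⟩ trivial
  have he' := he.res hf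
  obtain ⟨n, s, hs⟩ := Groth.Agent.Picfga.ZeroHom.exists_lift hM (isAffineOpen_top (Spec (CommRingCat.of R))) f
    (res M hf e)
  refine ⟨s, ?_⟩
  rintro rfl
  rw [map_zero] at hs
  have h1 : ores ((Spec (CommRingCat.of R)).basicOpen_le f) f ^ n = 0 := by
    apply he'.ext
    rw [← hs, zero_smul]
  have hne : Nonempty ((Spec (CommRingCat.of R)).basicOpen f) := ⟨⟨_, hxf⟩⟩
  have hdom : IsDomain Γ(Spec (CommRingCat.of R), (Spec (CommRingCat.of R)).basicOpen f) := inferInstance
  have h2 : IsUnit (ores ((Spec (CommRingCat.of R)).basicOpen_le f) f) :=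
    RingedSpace.isUnit_res_basicOpen _ f
  exact (h2.pow n).ne_zero h1

/-- **Every class is the class of an invertible ideal.** -/
theorem exists_dcl [IsDomain R] (c : Pic (Spec (CommRingCat.of R))) :
    ∃ (D : (Spec (CommRingCat.of R)).IdealSheafData) (hD : BlowUp.IsEffCartierIdeal D), dcl D hD = c := by
  obtain ⟨M, hM, h⟩ := exists_mk c⁻¹
  obtain ⟨s, hs⟩ := exists_section hM
  obtain ⟨I, hI⟩ := Groth.Agent.Picfga.ZeroDiv.exists_zeroIdeal hM s
  have hE : BlowUp.IsEffCartierIdeal I := Groth.Agent.Flat2D.PicZSch.isEffCartier_of_ne_zero hM hs hI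
  have h1 := Groth.Agent.Fga.ZeroClass.mk_eq_inv_dcl hM s hI hE
  refine ⟨I, hE, ?_⟩
  rw [h1] at h
  exact (inv_injective h).symm

theorem isInv_idl [IsDomain R] {D : (Spec (CommRingCat.of R)).IdealSheafData}
    (hD : BlowUp.IsEffCartierIdeal D) : IsInv (idl D) := by
  obtain ⟨E, hE, h⟩ := exists_dcl (dcl D hD)⁻¹
  have h1 : dcl (D * E) (isEff_mul hD hE) = 1 := by rw [dcl_mul hD hE, h, mul_inv_cancel]
  obtain ⟨z, hz, h2⟩ := exists_span_of_dcl_eq_one _ h1
  exact ⟨idl E, z, hz, by rw [← idl_mul, h2]⟩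

theorem isEff_iff [IsDomain R] {D : (Spec (CommRingCat.of R)).IdealSheafData} :
    BlowUp.IsEffCartierIdeal D ↔ IsInv (idl D) := ⟨isInv_idl, isEff_of_isInv⟩

/-- Equality of classes. -/
theorem exists_of_dcl_eq [IsDomain R] {D E : (Spec (CommRingCat.of R)).IdealSheafData}
    (hD : BlowUp.IsEffCartierIdeal D) (hE : BlowUp.IsEffCartierIdeal E) (h : dcl D hD = dcl E hE) :
    ∃ x y : R, x ≠ 0 ∧ y ≠ 0 ∧ Ideal.span {x} * idl D = Ideal.span {y} * idl E := by
  obtain ⟨F, hF, h'⟩ := exists_dcl (dcl D hD)⁻¹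
  have h1 : dcl (D * F) (isEff_mul hD hF) = 1 := by rw [dcl_mul hD hF, h', mul_inv_cancel]
  have h2 : dcl (E * F) (isEff_mul hE hF) = 1 := by rw [dcl_mul hE hF, h', h, mul_inv_cancel]
  obtain ⟨z, hz, e1⟩ := exists_span_of_dcl_eq_one _ h1
  obtain ⟨w, hw, e2⟩ := exists_span_of_dcl_eq_one _ h2
  rw [idl_mul] at e1 e2
  exact ⟨w, z, hw, hz, by rw [← e1, ← e2]; ring⟩

theorem dcl_pow_eq_one [IsDomain R] {D : (Spec (CommRingCat.of R)).IdealSheafData}
    (hD : BlowUp.IsEffCartierIdeal D) {n : ℕ} {d : R} (h : idl D ^ n = Ideal.span {d}) : dcl D hD ^ n = 1 := by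
  have h1 : ∀ n : ℕ, ∃ h : BlowUp.IsEffCartierIdeal (D ^ n), dcl (D ^ n) h = dcl D hD ^ n ∧ idl (D ^ n) = idl D ^ n := by
    intro n
    induction n with
    | zero =>
      have h0 : D ^ 0 = ⊤ := by rw [pow_zero, Scheme.IdealSheafData.one_eq_top]
      have h2 : ∀ (E : (Spec (CommRingCat.of R)).IdealSheafData), E = ⊤ →
          ∃ h : BlowUp.IsEffCartierIdeal E, dcl E h = 1 ∧ idl E = ⊤ := by
        rintro E rfl
        refine ⟨isEff_top, dcl_top, ?_⟩
        rw [idl]
        exact Ideal.map_top _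
      obtain ⟨h3, h4, h5⟩ := h2 _ h0
      exact ⟨h3, by rw [h4, pow_zero], by rw [h5, pow_zero, Ideal.one_eq_top]⟩
    | succ n ih =>
      obtain ⟨h3, h4, h5⟩ := ih
      have h6 : ∀ (E : (Spec (CommRingCat.of R)).IdealSheafData), E = D ^ n * D →
          ∃ h : BlowUp.IsEffCartierIdeal E, dcl E h = dcl D hD ^ n * dcl D hD ∧ idl E = idl D ^ n * idl D := by
        rintro E rfl
        exact ⟨isEff_mul h3 hD, by rw [dcl_mul h3 hD, h4], by rw [idl_mul, h5]⟩
      obtain ⟨h7, h8, h9⟩ := h6 _ (pow_succ _ _)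
      exact ⟨h7, by rw [h8, pow_succ], by rw [h9, pow_succ]⟩
  obtain ⟨h2, h3, h4⟩ := h1 n
  rw [← h3]
  exact dcl_eq_one_of_span h2 (h4.trans h)

end K407.AffPic
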