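import Groth.Agent.Sga3.H805.CharK
import Groth.Agent.Sga3B.Parab.DSHom

/-!
# Characters of a group with a central `𝔾_m`

`exists_character`: `E` an affine group scheme over a field `k`, `i : 𝔾_m ⟶ E` a non-trivial central homomorphism.
There is a character `χ` of `E` whose restriction to `𝔾_m` is the `n`-th power, `n ≥ 1` (the determinant of a weight
space of a representation).
-/

set_option autoImplicit false

universe u

open CategoryTheory MonoidalCategory CartesianMonoidalCategory MonObj GrpObj AlgebraicGeometry Limits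
open scoped TensorProduct

namespace K407.CentChar

open Groth.Agent.Sga3B Groth.Agent.Sga3.H805.CharK Groth.Agent.Books.AffBridge

section

variable {S : Scheme.{u}} {M N : Type} [AddCommGroup M] [AddCommGroup N]

lemma ds_ext_char {T : Over S} {x y : T ⟶ Red.DS S M} (h : DSPts.dsChar x = DSPts.dsChar y) : x = y :=
  (DSPts.dsEquiv T M).symm.injective h

lemma dsChar_pow {T : Over S} (x : T ⟶ Red.DS S M) (n : ℕ) :
    DSPts.dsChar (x ^ n) = DSPts.dsChar x ^ n := map_pow (DSPts.dsEquiv T M).symm x n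

lemma comp_DSmap_eq_pow (y : ℤ →+ ℤ) (n : ℕ) (hy : y 1 = n) {T : Over S} (t : T ⟶ Red.DS S ℤ) :
    t ≫ Red.DSmap S y = t ^ n := by
  apply ds_ext_char
  rw [DSPts.dsChar_DSmap, dsChar_pow]
  refine MonoidHom.ext fun m => ?_
  have h1 : y (Multiplicative.toAdd m) = n * Multiplicative.toAdd m := by
    have : y (Multiplicative.toAdd m) = Multiplicative.toAdd m • y 1 := by
      rw [← map_zsmul]; simp
    rw [this, hy, smul_eq_mul, mul_comm]
  have h2 : AddMonoidHom.toMultiplicative y m = m ^ n := by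
    change Multiplicative.ofAdd (y (Multiplicative.toAdd m)) = m ^ n
    rw [h1, ← nsmul_eq_mul, ofAdd_nsmul]; rfl
  rw [MonoidHom.comp_apply, h2, map_pow, MonoidHom.pow_apply]

lemma DSmap_comp {P : Type} [AddCommGroup P] (φ : M →+ N) (ψ : N →+ P) :
    Red.DSmap S ψ ≫ Red.DSmap S φ = Red.DSmap S (ψ.comp φ) := by
  apply ds_ext_char
  have h := DSPts.dsChar_DSmap (S := S) (T := Red.DS S P) (ψ.comp φ) (𝟙 _)
  have h2 := DSPts.dsChar_DSmap (S := S) (T := Red.DS S P) ψ (𝟙 _)
  rw [Category.id_comp] at h h2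
  rw [DSPts.dsChar_DSmap, h, h2]
  rfl

lemma DSmap_id : Red.DSmap S (AddMonoidHom.id M) = 𝟙 (Red.DS S M) := by
  apply ds_ext_char
  have h := DSPts.dsChar_DSmap (S := S) (T := Red.DS S M) (AddMonoidHom.id M) (𝟙 _)
  rw [Category.id_comp] at h
  rw [h]
  rfl

end

variable {k : Type u} [Field k]

/-- **Characters of a group with a central `𝔾_m`.** -/
theorem exists_character (E : Over (Spec (CommRingCat.of k))) [GrpObj E] [IsAffine E.left]
    (i : Red.Gm (Spec (CommRingCat.of k)) ⟶ E) [IsMonHom i] (h1 : i ≠ 1)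
    (hcent : ∀ (T : Over (Spec (CommRingCat.of k))) (t : T ⟶ Red.Gm (Spec (CommRingCat.of k))) (g : T ⟶ E),
      (t ≫ i) * g = g * (t ≫ i)) :
    ∃ (χ : E ⟶ Red.Gm (Spec (CommRingCat.of k))) (n : ℕ), IsMonHom χ ∧ 1 ≤ n ∧
      ∀ (T : Over (Spec (CommRingCat.of k))) (t : T ⟶ Red.Gm (Spec (CommRingCat.of k))), (t ≫ i) ≫ χ = t ^ n := by
  let φ : ℤ →+ (Fin 1 → ℤ) := { toFun := fun n _ => n, map_zero' := rfl, map_add' := fun _ _ => rfl }
  let ψ : (Fin 1 → ℤ) →+ ℤ := { toFun := fun f => f 0, map_zero' := rfl, map_add' := fun _ _ => rfl }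
  have hψφ : ψ.comp φ = AddMonoidHom.id ℤ := by ext; rfl
  have hφm : IsMonHom (Red.DSmap (Spec (CommRingCat.of k)) φ) := isMonHom_DSmap φ
  let i' : Red.DS (Spec (CommRingCat.of k)) (Fin 1 → ℤ) ⟶ E := Red.DSmap _ φ ≫ i
  have hψφ' : Red.DSmap (Spec (CommRingCat.of k)) ψ ≫ Red.DSmap _ φ = 𝟙 (Red.DS _ ℤ) := by
    rw [DSmap_comp, hψφ, DSmap_id]
  have hi' : i' ≠ 1 := by
    intro h
    apply h1
    have h2 := congrArg (fun z => Red.DSmap (Spec (CommRingCat.of k)) ψ ≫ z) h
    simp only [i'] at h2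
    rw [← Category.assoc, hψφ', Category.id_comp, MonObj.comp_one] at h2
    exact h2
  obtain ⟨χ, hχ, hne⟩ := exists_char_ne i' (fun X t g => by
    simpa only [i', Category.assoc] using hcent X (t ≫ Red.DSmap _ φ) g) hi'
  obtain ⟨y, hy⟩ := Parab.DSHom.exists_DSmap (i ≫ χ)
  have hy0 : y 1 ≠ 0 := by
    intro h0
    apply hne
    have hy1 : y = 0 := by ext; exact h0
    have h2 : i ≫ χ = 1 := by
      rw [hy, hy1]
      have := comp_DSmap_eq_pow (S := Spec (CommRingCat.of k)) (0 : ℤ →+ ℤ) 0 rfl (𝟙 _)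
      rw [Category.id_comp, pow_zero] at this
      exact this
    simp only [i']
    rw [Category.assoc, h2, MonObj.comp_one]
  rcases lt_or_gt_of_ne hy0 with h | h
  · -- negative weight
    let ν : ℤ →+ ℤ := -AddMonoidHom.id ℤ
    have hνm : IsMonHom (Red.DSmap (Spec (CommRingCat.of k)) ν) := isMonHom_DSmap ν
    refine ⟨χ ≫ Red.DSmap _ ν, (-(y 1)).toNat, inferInstance, by omega, fun T t => ?_⟩
    have h2 : i ≫ χ ≫ Red.DSmap _ ν = Red.DSmap _ (y.comp ν) := by
      rw [← Category.assoc, hy, DSmap_comp]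
    have h3 : (t ≫ i) ≫ χ ≫ Red.DSmap _ ν = t ≫ Red.DSmap _ (y.comp ν) := by
      rw [Category.assoc, h2]
    rw [h3]
    refine comp_DSmap_eq_pow _ _ ?_ t
    have : y.comp ν 1 = -(y 1) := by
      change y (-1) = _
      rw [map_neg]
    rw [this, Int.toNat_of_nonneg (by omega)]
  · refine ⟨χ, (y 1).toNat, hχ, by omega, fun T t => ?_⟩
    rw [Category.assoc, hy]
    exact comp_DSmap_eq_pow _ _ (by rw [Int.toNat_of_nonneg (by omega)]) t

/-- a monomorphism from `𝔾_m` is not the trivial homomorphism. -/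
lemma ne_one_of_mono (E : Over (Spec (CommRingCat.of k))) [GrpObj E]
    (i : Red.Gm (Spec (CommRingCat.of k)) ⟶ E) [Mono i] : i ≠ 1 := by
  intro h
  let B := MonoidAlgebra k (Multiplicative ℤ)
  have h2 : 𝟙 (Red.Gm (Spec (CommRingCat.of k))) = 1 := by
    rw [← cancel_mono i, Category.id_comp]
    have h3 : (1 : Red.Gm (Spec (CommRingCat.of k)) ⟶ Red.Gm (Spec (CommRingCat.of k))) ≫ i = 1 := by
      rw [h, MonObj.comp_one]
    rw [h3, h]
  -- evaluate at an element of infinite order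
  have h4 : ∀ (T : Over (Spec (CommRingCat.of k))) (t : T ⟶ Red.Gm (Spec (CommRingCat.of k))), t = 1 := by
    intro T t
    rw [← Category.comp_id t, h2, MonObj.comp_one]
  have h5 : ∀ χ : Multiplicative ℤ →* Γ((SpecOver k B).left, ⊤), χ = 1 := by
    intro χ
    have h6 := h4 (SpecOver k B) (DSPts.dsEquiv _ ℤ χ)
    rw [← map_one (DSPts.dsEquiv (SpecOver k B) ℤ)] at h6
    exact (DSPts.dsEquiv _ ℤ).injective h6
  have e : Γ((SpecOver k B).left, ⊤) ≃+* B := (Scheme.ΓSpecIso (CommRingCat.of B)).commRingCatIsoToRingEquiv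
  have h7 := h5 ((e.symm : B →* _).comp (MonoidAlgebra.of k (Multiplicative ℤ)))
  have h8 := DFunLike.congr_fun h7 (Multiplicative.ofAdd 1)
  simp only [MonoidHom.comp_apply, MonoidHom.one_apply] at h8
  have h9 : MonoidAlgebra.of k (Multiplicative ℤ) (Multiplicative.ofAdd 1) = 1 := by
    apply e.symm.injective
    exact h8.trans (map_one e.symm).symm
  rw [← map_one (MonoidAlgebra.of k (Multiplicative ℤ))] at h9
  have h10 := MonoidAlgebra.of_injective h9
  exact absurd (congrArg Multiplicative.toAdd h10) (by decide)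

end K407.CentChar
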