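import Groth.Agent.S16115
import Groth.Agent.S1582
import Groth.Agent.AlgGrp.K407.PicProd
import Mathlib.AlgebraicGeometry.Morphisms.Smooth

/-!
# Units on `G × Z` which are trivial on `e × Z` and on `G × z₀`
-/

set_option autoImplicit false
universe u
open CategoryTheory Limits MonoidalCategory CartesianMonoidalCategory MonObj GrpObj AlgebraicGeometry

namespace K407.UnitOne

variable {k : Type u} [Field k] [IsAlgClosed k]

lemma appTop_comp {X Y Z : Over (Spec (CommRingCat.of k))} (f : X ⟶ Y) (g : Y ⟶ Z) (a : Γ(Z.left, ⊤)) :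
    f.left.appTop (g.left.appTop a) = (f ≫ g).left.appTop a := by
  rw [Over.comp_left, Scheme.Hom.comp_appTop]
  rfl

/-- A unit on `G × Z` which is `1` on `e × Z` and on `G × z₀` is `1`. -/
theorem eq_one (G Z : Over (Spec (CommRingCat.of k))) [GrpObj G] [Smooth G.hom] [QuasiCompact G.hom]
    [ConnectedSpace ↥G.left]
    [IsIntegral Z.left] [IsSeparated Z.hom] [LocallyOfFiniteType Z.hom] [QuasiCompact Z.hom]
    (f : Γ((G ⊗ Z).left, ⊤)) (hf : IsUnit f)
    (h1 : (lift (toUnit Z ≫ (1 : 𝟙_ _ ⟶ G)) (𝟙 Z)).left.appTop f = 1)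
    (z₀ : 𝟙_ (Over (Spec (CommRingCat.of k))) ⟶ Z)
    (h2 : (lift (𝟙 G) (toUnit G ≫ z₀)).left.appTop f = 1) : f = 1 := by
  obtain ⟨χ, u, -, he, -, -, rfl⟩ := Groth.Agent.S16115.result k G Z f hf
  have h3 : u = 1 := by
    rw [map_mul, appTop_comp, appTop_comp, lift_fst, lift_snd, ← appTop_comp, ← one_eq_one, he, map_one,
      _root_.one_mul] at h1
    rw [← h1]
    simp
  subst h3
  have h4 : χ = 1 := by
    rw [map_mul, map_one, map_one, _root_.mul_one, appTop_comp, lift_fst] at h2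
    rw [← h2]
    simp
  rw [h4, map_one, map_one, _root_.one_mul]

end K407.UnitOne
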