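import Groth.Agent.AlgGrp.K407.LineDesc
import Groth.Agent.AlgGrp.K407.UnitOne
import Groth.Agent.AlgGrp.K407.ActPic

/-!
# Invertible modules on principal bundles

`exists_pull`: for a principal `G`-bundle `f : X ⟶ Y` under a connected linear group the classes in `Pic X` with
`σ^* c = p^* c` come from `Pic Y`.
-/

set_option autoImplicit false
universe u
open CategoryTheory Limits MonoidalCategory CartesianMonoidalCategory MonObj GrpObj AlgebraicGeometry
open Groth.Agent.Grpsch.PicGrp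

namespace K407.TorsorDesc

variable {k : Type u} [Field k] [IsAlgClosed k]

theorem isIntegral_prod (X Y : Over (Spec (CommRingCat.of k))) [IsIntegral X.left] [IsSeparated X.hom]
    [LocallyOfFiniteType X.hom] [QuasiCompact X.hom] [IsIntegral Y.left] [IsSeparated Y.hom]
    [LocallyOfFiniteType Y.hom] [QuasiCompact Y.hom] : IsIntegral (X ⊗ Y).left :=
  Groth.Agent.S1582.result k X.left Y.left X.hom Y.hom

section

variable {S : Scheme.{u}} {G X : Over S} [GrpObj G] (a : AlgGrp.Action G X)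

/-- `(h, x) ↦ (e, h, x)`. -/
noncomputable def t₁ (G X : Over S) [GrpObj G] : G ⊗ X ⟶ G ⊗ (G ⊗ X) :=
  lift (toUnit _ ≫ (1 : 𝟙_ _ ⟶ G)) (𝟙 _)

/-- `(g, x) ↦ (g, e, x)`. -/
noncomputable def t₂ (G X : Over S) [GrpObj G] : G ⊗ X ⟶ G ⊗ (G ⊗ X) :=
  lift (fst _ _) (lift (toUnit _ ≫ (1 : 𝟙_ _ ⟶ G)) (snd _ _))

/-- `x ↦ (e, x)`. -/
noncomputable def s (G X : Over S) [GrpObj G] : X ⟶ G ⊗ X :=
  lift (toUnit _ ≫ (1 : 𝟙_ _ ⟶ G)) (𝟙 _)

/-- `(g, h, x) ↦ (gh, x)`. -/
noncomputable def r₁₃ (G X : Over S) [GrpObj G] : G ⊗ (G ⊗ X) ⟶ G ⊗ X :=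
  lift (fst _ _ * snd _ _ ≫ fst _ _) (snd _ _ ≫ snd _ _)

lemma s_act : s G X ≫ a.act = 𝟙 X := by
  rw [s, MonObj.comp_one]
  exact K395.Act.one_lift a _

lemma s_snd : s G X ≫ snd G X = 𝟙 X := by rw [s, lift_snd]

lemma e1 : (G ◁ a.act) ≫ a.act = r₁₃ G X ≫ a.act := by
  rw [r₁₃, K395.Act.mul_lift]
  congr 1
  ext1
  · simp
  · rw [whiskerLeft_snd, lift_snd]
    congr 1
    ext1 <;> simp

lemma e3 : snd G (G ⊗ X) ≫ snd G X = r₁₃ G X ≫ snd G X := by
  rw [r₁₃, lift_snd]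

lemma h₁ : t₁ G X ≫ (G ◁ a.act) = a.act ≫ s G X := by
  rw [t₁, s]
  ext1
  · simp
  · simp

lemma h₁' : t₁ G X ≫ snd G (G ⊗ X) = 𝟙 _ := by rw [t₁, lift_snd]

lemma h₁'' : t₁ G X ≫ r₁₃ G X = 𝟙 _ := by
  rw [t₁, r₁₃]
  ext1
  · rw [comp_lift, lift_fst, MonObj.comp_mul, lift_fst, lift_snd_assoc, MonObj.comp_one, _root_.one_mul,
      Category.id_comp]
  · simp

lemma h₂ : t₂ G X ≫ snd G (G ⊗ X) = snd G X ≫ s G X := by
  rw [t₂, s]
  ext1 <;> simp

lemma h₂' : t₂ G X ≫ (G ◁ a.act) = 𝟙 _ := by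
  rw [t₂]
  ext1
  · simp
  · rw [Category.assoc, whiskerLeft_snd, lift_snd_assoc, MonObj.comp_one, K395.Act.one_lift, Category.id_comp]

lemma h₂'' : t₂ G X ≫ r₁₃ G X = 𝟙 _ := by
  rw [t₂, r₁₃]
  ext1
  · rw [comp_lift, lift_fst, MonObj.comp_mul, lift_fst, lift_snd_assoc, MonObj.comp_one, lift_fst, _root_.mul_one,
      Category.id_comp]
  · simp

end

/-- **Invertible modules on a principal bundle under a connected linear group.** -/
theorem exists_pull (G X Y : Over (Spec (CommRingCat.of k))) [GrpObj G] [IsAffine G.left] [Smooth G.hom]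
    [ConnectedSpace ↥G.left]
    [IsIntegral X.left] [IsSeparated X.hom] [LocallyOfFiniteType X.hom] [QuasiCompact X.hom]
    (a : AlgGrp.Action G X) (f : X ⟶ Y) [Flat f.left] [Surjective f.left] [QuasiCompact f.left]
    (hsq : IsPullback a.act.left (snd G X).left f.left f.left)
    (x : 𝟙_ (Over (Spec (CommRingCat.of k))) ⟶ X) (c : Pic X.left)
    (h : pull a.act.left c = pull (snd G X).left c) : ∃ d : Pic Y.left, pull f.left d = c := by
  obtain ⟨L, hL, rfl⟩ := exists_mk c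
  rw [pull_mk, pull_mk, mk_eq_iff] at h
  have hG : IsIntegral G.left := K407.Chart.isIntegral_of_connected G
  have hq : QuasiCompact G.hom := inferInstance
  have hs : IsSeparated G.hom := inferInstance
  have hZ : IsIntegral (G ⊗ X).left := isIntegral_prod G X
  have hZs : IsSeparated (G ⊗ X).hom := by
    change IsSeparated (pullback.fst G.hom X.hom ≫ G.hom)
    infer_instance
  have hZf : LocallyOfFiniteType (G ⊗ X).hom := by
    change LocallyOfFiniteType (pullback.fst G.hom X.hom ≫ G.hom)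
    infer_instance
  have hZq : QuasiCompact (G ⊗ X).hom := by
    change QuasiCompact (pullback.fst G.hom X.hom ≫ G.hom)
    infer_instance
  obtain ⟨M, hM, ⟨e⟩⟩ := LineDesc.exists_descent (r₁₂ := (G ◁ a.act).left) (r₂₃ := (snd G (G ⊗ X)).left)
    (r₁₃ := (r₁₃ G X).left) (t₁ := (t₁ G X).left) (t₂ := (t₂ G X).left) (s := (s G X).left) f.left hsq
    (Groth.Agent.Sga3C.SchemImage.isPullback_whiskerLeft_left a.act G)
    (by rw [← Over.comp_left, s_act]; rfl) (by rw [← Over.comp_left, s_snd]; rfl)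
    (by rw [← Over.comp_left, e1]; rfl) (by rw [← Over.comp_left, e3]; rfl)
    (by rw [← Over.comp_left, h₁]; rfl) (by rw [← Over.comp_left, h₁']; rfl)
    (by rw [← Over.comp_left, h₁'']; rfl) (by rw [← Over.comp_left, h₂]; rfl)
    (by rw [← Over.comp_left, h₂']; rfl) (by rw [← Over.comp_left, h₂'']; rfl)
    (fun u hu h1 h2 ↦ UnitOne.eq_one G (G ⊗ X) u hu h1 (lift 1 x) (by
      have h3 : lift (𝟙 G) (toUnit G ≫ lift 1 x) = lift (𝟙 G) (toUnit G ≫ x) ≫ t₂ G X := by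
        rw [t₂]
        ext1
        · simp
        · simp
      rw [h3, ← UnitOne.appTop_comp]
      refine (congrArg _ h2).trans (map_one _))) hL h
  exact ⟨mk M hM, by rw [pull_mk, mk_eq_iff]; exact ⟨e⟩⟩

end K407.TorsorDesc
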