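import Groth.Agent.Sga3C.SchemImage
import Groth.Agent.AlgGrp.K407.TorsorDesc
import Groth.Agent.CycB.ImageInt
import Groth.Agent.AlgGrp.K395.Act
import Groth.Agent.AlgGrp.K395.Dense

/-!
# Actions on closures of graphs

`W ≤ X` open in an integral scheme with an action of a connected linear group `G`, `r : W ⟶ P` a morphism which is
compatible with a morphism `θ : G ⊗ P ⟶ P` on a nonempty open of `G ⊗ W`.  Then `G` acts on the closure of the graph of
`r` in `X ⊗ P`, compatibly with the action on `X` (`exists_action`); the projection to `X` is an isomorphism over `W`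
(`isPullback_section`).
-/

set_option autoImplicit false
universe u
open CategoryTheory CategoryTheory.Limits AlgebraicGeometry MonoidalCategory CartesianMonoidalCategory MonObj GrpObj

namespace K407.GraphClos

open Groth.Agent.Sga3C.SchemImage

/-- A separated morphism with a schematically dominant section over an open is an isomorphism over this open. -/
theorem isPullback_section {X' X W : Scheme.{u}} (f : X' ⟶ X) [IsSeparated f] (w : W ⟶ X) [IsOpenImmersion w]
    (s : W ⟶ X') (h : s ≫ f = w) [IsSchemeTheoreticallyDominant s] [QuasiCompact s] : IsPullback s (𝟙 W) f w := by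
  let s' : W ⟶ pullback f w := pullback.lift s (𝟙 W) (by rw [h, Category.id_comp])
  have h1 : s' ≫ pullback.fst f w = s := pullback.lift_fst _ _ _
  have h2 : s' ≫ pullback.snd f w = 𝟙 W := pullback.lift_snd _ _ _
  have sq : IsPullback (𝟙 W) s' s (pullback.fst f w) := by
    refine ⟨⟨by rw [h1, Category.id_comp]⟩, ⟨PullbackCone.IsLimit.mk _ (fun c => c.fst)
      (fun c => Category.comp_id _) (fun c => ?_) (fun c m hm _ => by simpa using hm)⟩⟩
    apply pullback.hom_ext
    · rw [Category.assoc, h1, c.condition]
    · rw [Category.assoc, h2, Category.comp_id, ← cancel_mono w, Category.assoc, ← pullback.condition,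
        ← reassoc_of% c.condition, h]
  have : IsSchemeTheoreticallyDominant s' := .of_isPullback sq
  have : IsClosedImmersion s' := by
    have : IsClosedImmersion (s' ≫ pullback.snd f w) := by rw [h2]; infer_instance
    exact IsClosedImmersion.of_comp s' (pullback.snd f w)
  have : IsIso s' := IsClosedImmersion.isIso_iff_ker_eq_bot.2 s'.ker_eq_bot
  exact IsPullback.of_iso (IsPullback.of_hasPullback f w) (asIso s').symm (Iso.refl _) (Iso.refl _) (Iso.refl _)
    (by simp [← h1]) ((cancel_epi s').1 (by simp [h2])) (by simp) (by simp)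

/-- A nonempty open immersion into an irreducible scheme is dominant. -/
theorem isDominant_of_isOpenImmersion {U X : Scheme.{u}} (j : U ⟶ X) [IsOpenImmersion j] [Nonempty U]
    [IrreducibleSpace X] : IsDominant j := by
  refine ⟨?_⟩
  have h := j.opensRange.2.dense ⟨_, Set.mem_range_self (Classical.arbitrary U)⟩
  exact h

/-- Morphisms from an integral scheme to a modification of `X` are determined by the composite with the projection
as soon as it meets the open over which the modification is trivial. -/
theorem ext_of_section {T X' X W : Scheme.{u}} [IsIntegral T] (f : X' ⟶ X) [IsSeparated f] (w : W ⟶ X)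
    [IsOpenImmersion w] (s : W ⟶ X') (sq : IsPullback s (𝟙 W) f w) (u v : T ⟶ X') (h : u ≫ f = v ≫ f) (t : T)
    (ht : (u ≫ f) t ∈ Set.range w) : u = v := by
  have hne : Nonempty ↥(pullback (u ≫ f) w) := by
    obtain ⟨y, hy⟩ := ht
    obtain ⟨z, -, -⟩ := Scheme.Pullback.exists_preimage_pullback (f := u ≫ f) (g := w) t y hy.symm
    exact ⟨z⟩
  have hd : IsDominant (pullback.fst (u ≫ f) w) := isDominant_of_isOpenImmersion _
  refine ext_of_isDominant_of_isSeparated f h (pullback.fst (u ≫ f) w) ?_
  have key : ∀ u' : T ⟶ X', u' ≫ f = u ≫ f → pullback.fst (u ≫ f) w ≫ u' = pullback.snd (u ≫ f) w ≫ s := by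
    intro u' hu'
    have hc : (pullback.fst (u ≫ f) w ≫ u') ≫ f = pullback.snd (u ≫ f) w ≫ w := by
      rw [Category.assoc, hu', pullback.condition]
    rw [← sq.lift_fst _ _ hc]
    congr 1
    have h3 := sq.lift_snd _ _ hc
    rwa [Category.comp_id] at h3
  rw [key u rfl, key v h.symm]

section Image

variable {S : Scheme.{u}} {W Y : Over S} (j : W ⟶ Y)

/-- The schematic image as a scheme over `S`. -/
noncomputable def img : Over S := Over.mk (j.left.imageι ≫ Y.hom)

/-- The inclusion of the schematic image. -/
noncomputable def imgι : img j ⟶ Y := Over.homMk j.left.imageι rfl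

/-- The morphism to the schematic image. -/
noncomputable def toImg : W ⟶ img j := Over.homMk j.left.toImage (by
  change j.left.toImage ≫ j.left.imageι ≫ Y.hom = _
  rw [Scheme.Hom.toImage_imageι_assoc, Over.w])

@[reassoc (attr := simp)]
theorem toImg_ι : toImg j ≫ imgι j = j := by
  ext1
  exact Scheme.Hom.toImage_imageι j.left

instance : IsClosedImmersion (imgι j).left := inferInstanceAs (IsClosedImmersion j.left.imageι)

instance : IsSchemeTheoreticallyDominant (toImg j).left := dominant_toImage j.left

instance [QuasiCompact j.left] : QuasiCompact (toImg j).left := inferInstanceAs (QuasiCompact j.left.toImage)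

instance : Mono (imgι j) := by
  have : Mono ((Over.forget S).map (imgι j)) := inferInstanceAs (Mono j.left.imageι)
  exact (Over.forget S).mono_of_mono_map this

instance isIntegral_img [QuasiCompact j.left] [IsIntegral W.left] : IsIntegral (img j).left :=
  Groth.Agent.CycB.ImageInt.isIntegral_image j.left

end Image

section Act

variable {k : Type u} [Field k] [IsAlgClosed k] {G X P W N : Over (Spec (CommRingCat.of k))} [GrpObj G]
  (a : AlgGrp.Action G X) (w : W ⟶ X) (r : W ⟶ P) (θ : G ⊗ P ⟶ P)

/-- `(g, x, y) ↦ (g x, θ (g, y))`. -/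
noncomputable def tw : G ⊗ (X ⊗ P) ⟶ X ⊗ P := lift ((G ◁ fst X P) ≫ a.act) ((G ◁ snd X P) ≫ θ)

/-- The projection of the closure of the graph. -/
noncomputable def prX : img (lift w r) ⟶ X := imgι (lift w r) ≫ fst X P

omit [IsAlgClosed k] in
theorem toImg_prX : toImg (lift w r) ≫ prX w r = w := by
  rw [prX, toImg_ι_assoc, lift_fst]

theorem exists_lift_act [Smooth G.hom] [QuasiCompact G.hom] [IsIntegral G.left] [IsIntegral W.left]
    [LocallyOfFiniteType W.hom] [IsSeparated W.hom] [QuasiCompact W.hom] [QuasiCompact (lift w r).left]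
    (n : N ⟶ G ⊗ W) [IsOpenImmersion n.left] [Nonempty ↥N.left]
    (q : N ⟶ W) (h1 : q ≫ w = n ≫ (G ◁ w) ≫ a.act) (h2 : q ≫ r = n ≫ (G ◁ r) ≫ θ) :
    ∃ b : G ⊗ img (lift w r) ⟶ img (lift w r), b ≫ imgι (lift w r) = (G ◁ imgι (lift w r)) ≫ tw a θ := by
  have := K395.Dense.isSeparated_hom G
  have hi : IsIntegral (G ⊗ W).left := TorsorDesc.isIntegral_prod G W
  have hd : IsDominant n.left := isDominant_of_isOpenImmersion _
  have hn : IsSchemeTheoreticallyDominant n.left := .of_isDominant _
  have hs := dominant_whiskerLeft (toImg (lift w r)) G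
  have : IsSchemeTheoreticallyDominant (n ≫ (G ◁ toImg (lift w r))).left := by
    rw [Over.comp_left]; infer_instance
  refine exists_lift_over (n ≫ (G ◁ toImg (lift w r))) ((G ◁ imgι (lift w r)) ≫ tw a θ) (imgι (lift w r))
    (q ≫ toImg (lift w r)) ?_
  rw [Category.assoc, toImg_ι, Category.assoc, ← whiskerLeft_comp_assoc, toImg_ι, tw, comp_lift, comp_lift, comp_lift,
    ← whiskerLeft_comp_assoc, ← whiskerLeft_comp_assoc, lift_fst, lift_snd, h1, h2]

omit [IsAlgClosed k] in
theorem isSeparated_img [IsSeparated X.hom] [IsSeparated P.hom] : IsSeparated (img (lift w r)).hom := by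
  have : IsSeparated (X ⊗ P).hom := by
    have h : (X ⊗ P).hom = pullback.fst X.hom P.hom ≫ X.hom := rfl
    rw [h]; infer_instance
  change IsSeparated ((lift w r).left.imageι ≫ (X ⊗ P).hom)
  infer_instance

omit [IsAlgClosed k] in
theorem locallyOfFiniteType_img [LocallyOfFiniteType X.hom] [LocallyOfFiniteType P.hom] :
    LocallyOfFiniteType (img (lift w r)).hom := by
  have : LocallyOfFiniteType (X ⊗ P).hom := by
    have h : (X ⊗ P).hom = pullback.fst X.hom P.hom ≫ X.hom := rfl
    rw [h]; infer_instance
  change LocallyOfFiniteType ((lift w r).left.imageι ≫ (X ⊗ P).hom)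
  infer_instance

omit [IsAlgClosed k] in
theorem quasiCompact_img [QuasiCompact X.hom] [QuasiCompact P.hom] :
    QuasiCompact (img (lift w r)).hom := by
  have : QuasiCompact (X ⊗ P).hom := by
    have h : (X ⊗ P).hom = pullback.fst X.hom P.hom ≫ X.hom := rfl
    rw [h]; infer_instance
  change QuasiCompact ((lift w r).left.imageι ≫ (X ⊗ P).hom)
  infer_instance

omit [IsAlgClosed k] in
theorem isPullback_prX [IsSeparated X.hom] [IsSeparated P.hom] [IsOpenImmersion w.left]
    [QuasiCompact (lift w r).left] :
    IsPullback (toImg (lift w r)).left (𝟙 W.left) (prX w r).left w.left := by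
  have := isSeparated_img w r
  have : IsSeparated (prX w r).left := by
    have : IsSeparated ((prX w r).left ≫ X.hom) := by rw [Over.w]; infer_instance
    exact IsSeparated.of_comp _ X.hom
  exact isPullback_section _ _ _ (by rw [← Over.comp_left, toImg_prX])

theorem exists_action [Smooth G.hom] [QuasiCompact G.hom] [IsIntegral G.left] [IsIntegral W.left]
    [LocallyOfFiniteType W.hom] [IsSeparated W.hom] [QuasiCompact W.hom] [IsOpenImmersion w.left]
    [IsSeparated X.hom] [LocallyOfFiniteType X.hom] [QuasiCompact X.hom]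
    [IsSeparated P.hom] [LocallyOfFiniteType P.hom] [QuasiCompact P.hom] [QuasiCompact (lift w r).left]
    (n : N ⟶ G ⊗ W) [IsOpenImmersion n.left] [Nonempty ↥N.left]
    (q : N ⟶ W) (h1 : q ≫ w = n ≫ (G ◁ w) ≫ a.act) (h2 : q ≫ r = n ≫ (G ◁ r) ≫ θ) :
    ∃ a' : AlgGrp.Action G (img (lift w r)), a'.act ≫ prX w r = (G ◁ prX w r) ≫ a.act := by
  have hGs := K395.Dense.isSeparated_hom G
  have := isSeparated_img w r
  have := locallyOfFiniteType_img w r
  have := quasiCompact_img w r
  have sq := isPullback_prX w r
  have hsep : IsSeparated (prX w r).left := by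
    have : IsSeparated ((prX w r).left ≫ X.hom) := by rw [Over.w]; infer_instance
    exact IsSeparated.of_comp _ X.hom
  obtain ⟨b, hb⟩ := exists_lift_act a w r θ n q h1 h2
  have hb' : b ≫ prX w r = (G ◁ prX w r) ≫ a.act := by
    rw [prX, reassoc_of% hb, tw, lift_fst, whiskerLeft_comp_assoc]
  have hGG : IsIntegral (G ⊗ G).left := TorsorDesc.isIntegral_prod G G
  have key : ∀ (T : Over (Spec (CommRingCat.of k))) (_ : IsIntegral T.left) (u v : T ⟶ img (lift w r))
      (_ : u ≫ prX w r = v ≫ prX w r) (e : img (lift w r) ⟶ T) (_ : e ≫ u ≫ prX w r = prX w r), u = v := by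
    intro T _ u v huv e he
    have hne : Nonempty ↥W.left := inferInstance
    let x : W.left := Classical.arbitrary _
    ext1
    refine ext_of_section (prX w r).left w.left (toImg (lift w r)).left sq u.left v.left ?_
      ((toImg (lift w r) ≫ e).left x) ?_
    · rw [← Over.comp_left, huv, Over.comp_left]
    · refine ⟨x, ?_⟩
      rw [← Over.comp_left, ← Scheme.Hom.comp_apply, ← Over.comp_left, Category.assoc, he, toImg_prX]
  refine ⟨⟨b, ?_, ?_⟩, hb'⟩
  · rw [← cancel_epi (λ_ (img (lift w r))).inv]
    refine key _ inferInstance _ _ ?_ (𝟙 _) ?_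
    · rw [Category.assoc, Category.assoc, hb', Iso.inv_hom_id, Category.id_comp, ← whisker_exchange_assoc, a.one_act]
      simp
    · rw [Category.id_comp, Category.assoc, Category.assoc, hb', ← whisker_exchange_assoc, a.one_act]
      simp
  · have hT : IsIntegral ((G ⊗ G) ⊗ img (lift w r)).left := by
      have : IsSeparated (G ⊗ G).hom := by
        have h : (G ⊗ G).hom = pullback.fst G.hom G.hom ≫ G.hom := rfl
        rw [h]; infer_instance
      have : LocallyOfFiniteType (G ⊗ G).hom := by
        have h : (G ⊗ G).hom = pullback.fst G.hom G.hom ≫ G.hom := rfl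
        rw [h]; infer_instance
      have : QuasiCompact (G ⊗ G).hom := by
        have h : (G ⊗ G).hom = pullback.fst G.hom G.hom ≫ G.hom := rfl
        rw [h]; infer_instance
      exact TorsorDesc.isIntegral_prod (G ⊗ G) (img (lift w r))
    have e1 : ((μ[G] ▷ img (lift w r)) ≫ b) ≫ prX w r = ((G ⊗ G) ◁ prX w r) ≫ (μ[G] ▷ X) ≫ a.act := by
      rw [Category.assoc, hb', whisker_exchange_assoc]
    refine key _ hT _ _ ?_ (lift (toUnit _ ≫ lift 1 1) (𝟙 _)) ?_
    · rw [e1, a.mul_act, Category.assoc, Category.assoc, hb', ← whiskerLeft_comp_assoc, hb',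
        whiskerLeft_comp_assoc]
      simp
    · rw [e1]
      have h3 : lift (toUnit (img (lift w r)) ≫ lift (1 : 𝟙_ _ ⟶ G) (1 : 𝟙_ _ ⟶ G)) (𝟙 (img (lift w r))) ≫
          (G ⊗ G) ◁ prX w r ≫ (μ[G] ▷ X) ≫ a.act = lift 1 (prX w r) ≫ a.act := by
        rw [← Category.assoc, ← Category.assoc]
        congr 1
        ext1
        · simp [← Hom.mul_def]
        · simp
      rw [h3, K395.Act.one_lift]

end Act

end K407.GraphClos
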