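import Groth.Agent.AlgGrp.K407.PnPoint
import Groth.Agent.AlgGrp.K407.GraphClos
import Mathlib.AlgebraicGeometry.ZariskisMainTheorem

/-!
# A criterion for closed immersions into projective space

`X'` a modification of `X` in `X ⊗ P^N`, birational to `W`, where the morphism `W ⟶ P^N` has homogeneous
coordinates `H`.
-/

set_option autoImplicit false
universe u
open CategoryTheory CategoryTheory.Limits AlgebraicGeometry MonoidalCategory CartesianMonoidalCategory

namespace K407.ChowProj

open K442.PnVp K407.PnPoint Groth.Agent.Sga5.ProjChart Groth.Agent.Sga7.H132.ProjPts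

variable {k : Type u} [Field k] {N : ℕ}

/-- Restriction of a scheme over `Spec k` to an open. -/
noncomputable abbrev sub {T : Over (Spec (CommRingCat.of k))} (V : T.left.Opens) : Over (Spec (CommRingCat.of k)) :=
  Over.mk (V.ι ≫ T.hom)

/-- The inclusion. -/
noncomputable abbrev inc {T : Over (Spec (CommRingCat.of k))} (V : T.left.Opens) : sub V ⟶ T := Over.homMk V.ι rfl

/-- Points determine the coordinates up to a unit. -/
theorem pt_inj (T : Over (Spec (CommRingCat.of k))) (v w : Fin (N + 1) → Γ(T.left, ⊤)) (i j : Fin (N + 1))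
    (hi : IsUnit (v i)) (hj : IsUnit (w j)) (h : pt T v i hi = pt T w j hj) (l : Fin (N + 1)) :
    w l * v i = w i * v l := by
  refine T.left.IsSheaf.section_ext fun x _ => ?_
  obtain ⟨_, ⟨V, hV, rfl⟩, hxV, hVU : V ≤ ⊤⟩ :=
    T.left.isBasis_affineOpens.exists_subset_of_mem_open (show x ∈ (⊤ : T.left.Opens) from trivial) isOpen_univ
  refine ⟨V, hVU, hxV, ?_⟩
  have : IsAffine (V : Scheme.{u}) := hV
  have h1 := congrArg (fun q => inc V ≫ q) h
  simp only [comp_pt] at h1
  have h2 := congr($(h1).left)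
  have : IsIso (sub V).left.toSpecΓ := inferInstanceAs (IsIso (V : Scheme.{u}).toSpecΓ)
  rw [pt_left, pt_left, cancel_epi] at h2
  obtain ⟨c, hc⟩ := vp_inj _ _ _ i j _ _ h2
  have h3 : ∀ m, (inc V).left.appTop.hom (w m) = c.1 * (inc V).left.appTop.hom (v m) := fun m => congrFun hc m
  have h4 : (inc V).left.appTop.hom (w l * v i) = (inc V).left.appTop.hom (w i * v l) := by
    rw [map_mul, map_mul, h3, h3]
    ring
  have h5 : ∀ s : Γ(T.left, ⊤), T.left.presheaf.map (homOfLE hVU).op s =
      (Scheme.Opens.topIso (X := T.left) V).hom ((inc V).left.appTop.hom s) := by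
    intro s
    have h6 : (inc V).left.appTop = T.left.presheaf.map (homOfLE (x := (Scheme.Opens.ι (X := T.left) V) ''ᵁ ⊤) le_top).op :=
      Scheme.Opens.ι_appTop (X := T.left) V
    rw [h6]
    change _ = (T.left.presheaf.map _ ≫ T.left.presheaf.map _) s
    rw [← Functor.map_comp]
    rfl
  rw [h5, h5, h4]

/-- The chart of projective space as a scheme over `Spec k`. -/
noncomputable abbrev D (N : ℕ) (k : Type u) [Field k] (j : Fin (N + 1)) : Over (Spec (CommRingCat.of k)) :=
  Over.mk (chart N k j ≫ CohB1.ProjSpace.toSpec N k)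

/-- The inclusion of the chart. -/
noncomputable abbrev dj (N : ℕ) (k : Type u) [Field k] (j : Fin (N + 1)) : D N k j ⟶ P N k :=
  Over.homMk (chart N k j) rfl

/-- The coordinates on the chart. -/
noncomputable def cd (N : ℕ) (k : Type u) [Field k] (j l : Fin (N + 1)) : Γ((D N k j).left, ⊤) :=
  (Scheme.ΓSpecIso (CommRingCat.of (Chart N k j))).inv.hom (coord N k j l)

theorem cd_self (j : Fin (N + 1)) : cd N k j j = 1 := by
  rw [cd, coord_self, map_one]

theorem isUnit_cd_self (j : Fin (N + 1)) : IsUnit (cd N k j j) := by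
  rw [cd_self]; exact isUnit_one

theorem dj_eq_pt (j : Fin (N + 1)) : dj N k j = pt (D N k j) (cd N k j) j (isUnit_cd_self j) := by
  ext1
  rw [pt_left]
  have h1 : (Spec (CommRingCat.of (Chart N k j))).toSpecΓ ≫
      Spec.map (CommRingCat.ofHom (Scheme.ΓSpecIso (CommRingCat.of (Chart N k j))).inv.hom) = 𝟙 _ :=
    toSpecΓ_SpecMap_ΓSpecIso_inv _
  have h2 : chart N k j = (Spec (CommRingCat.of (Chart N k j))).toSpecΓ ≫
      Spec.map (CommRingCat.ofHom (Scheme.ΓSpecIso (CommRingCat.of (Chart N k j))).inv.hom) ≫ chart N k j := by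
    rw [reassoc_of% h1]
  change chart N k j = _
  rw [h2]
  congr 1
  refine chart_vp j _ _ ?_ _ ?_ _
  · rw [str]
    ext c
    change _ = ((D N k j).hom.appTop).hom _
    have h3 : (D N k j).hom = Spec.map (CommRingCat.ofHom (chartC N k j)) := chart_toSpec N k j
    rw [h3]
    have h4 := congr($(Scheme.ΓSpecIso_inv_naturality (CommRingCat.ofHom (chartC N k j))) c)
    exact h4
  · rfl

theorem comp_dj {T : Over (Spec (CommRingCat.of k))} (j : Fin (N + 1)) (b : T ⟶ D N k j) :
    b ≫ dj N k j = pt T (b.left.appTop.hom ∘ cd N k j) j ((isUnit_cd_self j).map b.left.appTop.hom) := by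
  rw [dj_eq_pt, comp_pt]

/-- Affine space with coordinates indexed by `σ`. -/
noncomputable abbrev A (σ : Type) (k : Type u) [Field k] : Over (Spec (CommRingCat.of k)) :=
  Over.mk (Spec.map (CommRingCat.ofHom (MvPolynomial.C : k →+* MvPolynomial σ k)))

/-- The morphism to affine space given by functions. -/
noncomputable def toA {σ : Type} (T : Over (Spec (CommRingCat.of k))) (u : σ → Γ(T.left, ⊤)) : T ⟶ A σ k :=
  Over.homMk (T.left.toSpecΓ ≫ Spec.map (CommRingCat.ofHom (MvPolynomial.eval₂Hom (str T) u))) (by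
    change (T.left.toSpecΓ ≫ Spec.map (CommRingCat.ofHom (MvPolynomial.eval₂Hom (str T) u))) ≫
      Spec.map (CommRingCat.ofHom MvPolynomial.C) = T.hom
    rw [Category.assoc, ← Spec.map_comp, ← CommRingCat.ofHom_comp, MvPolynomial.eval₂Hom_comp_C, hom_eq])

theorem comp_toA {σ : Type} {S T : Over (Spec (CommRingCat.of k))} (g : S ⟶ T) (u : σ → Γ(T.left, ⊤)) :
    g ≫ toA T u = toA S (g.left.appTop.hom ∘ u) := by
  ext1
  have h2 : g.left ≫ T.left.toSpecΓ = S.left.toSpecΓ ≫ Spec.map (CommRingCat.ofHom g.left.appTop.hom) :=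
    Scheme.toSpecΓ_naturality g.left
  change g.left ≫ T.left.toSpecΓ ≫ Spec.map _ = S.left.toSpecΓ ≫ Spec.map _
  rw [reassoc_of% h2, ← Spec.map_comp, ← CommRingCat.ofHom_comp]
  congr 3
  refine MvPolynomial.ringHom_ext (fun c => ?_) (fun i => ?_)
  · rw [RingHom.comp_apply, MvPolynomial.eval₂Hom_C, MvPolynomial.eval₂Hom_C]
    exact RingHom.congr_fun (str_comp g) c
  · rw [RingHom.comp_apply, MvPolynomial.eval₂Hom_X', MvPolynomial.eval₂Hom_X']
    rfl

theorem isClosedImmersion_toA {σ : Type} (T : Over (Spec (CommRingCat.of k))) [IsAffine T.left] (u : σ → Γ(T.left, ⊤))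
    (hu : Function.Surjective (MvPolynomial.eval₂Hom (str T) u)) : IsClosedImmersion (toA T u).left := by
  change IsClosedImmersion (T.left.toSpecΓ ≫ Spec.map (CommRingCat.ofHom (MvPolynomial.eval₂Hom (str T) u)))
  have := IsClosedImmersion.spec_of_surjective (CommRingCat.ofHom (MvPolynomial.eval₂Hom (str T) u)) hu
  infer_instance

open Groth.Agent.Sga3C.SchemImage

theorem isPullback_lift {C : Type*} [Category* C] [CartesianMonoidalCategory C] {X X' P D V : C} (f : X' ⟶ X)
    (g : X' ⟶ P) (d : D ⟶ P) {a : V ⟶ X'} {b : V ⟶ D} (h : IsPullback a b g d) :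
    IsPullback a (lift (a ≫ f) b) (lift f g) (X ◁ d) := by
  have key : ∀ q : PullbackCone (lift f g) (X ◁ d), q.fst ≫ g = (q.snd ≫ snd _ _) ≫ d := by
    intro q
    have := congr($(q.condition) ≫ snd _ _)
    simpa using this
  refine ⟨⟨?_⟩, ⟨PullbackCone.IsLimit.mk _ (fun q => h.lift q.fst (q.snd ≫ snd _ _) (key q)) (fun q => h.lift_fst _ _ _)
    (fun q => ?_) (fun q m hm1 hm2 => ?_)⟩⟩
  · ext1
    · simp
    · simp [h.w]
  · have := congr($(q.condition) ≫ fst _ _)
    ext1
    · simpa using this
    · simp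
  · apply h.hom_ext
    · simpa using hm1
    · simp [← hm2]

section

variable {X X' W U : Over (Spec (CommRingCat.of k))} (f : X' ⟶ X) (g : X' ⟶ P N k) (s : W ⟶ X')
  (H : Fin (N + 1) → Γ(W.left, ⊤)) (i₀ : Fin (N + 1)) (h₀ : IsUnit (H i₀)) (hs : s ≫ g = pt W H i₀ h₀)

include hs in
/-- The coordinates on a chart in terms of `H`. -/
theorem coords {T : Over (Spec (CommRingCat.of k))} (p : T ⟶ W) (l : Fin (N + 1)) (d : T ⟶ D N k l)
    (h : d ≫ dj N k l = p ≫ s ≫ g) (m : Fin (N + 1)) :
    IsUnit (p.left.appTop.hom (H l)) ∧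
      p.left.appTop.hom (H m) = p.left.appTop.hom (H l) * d.left.appTop.hom (cd N k l m) := by
  rw [hs, comp_pt, dj_eq_pt, comp_pt] at h
  have h1 : ∀ m, p.left.appTop.hom (H m) * d.left.appTop.hom (cd N k l l) =
      p.left.appTop.hom (H l) * d.left.appTop.hom (cd N k l m) := fun m => pt_inj T _ _ _ _ _ _ h m
  simp only [cd_self, map_one, mul_one] at h1
  refine ⟨?_, h1 m⟩
  have h2 := h₀.map p.left.appTop.hom
  rw [h1] at h2
  exact isUnit_of_mul_isUnit_left h2

include hs in
theorem isClosedImmersion_snd [IsSeparated X.hom] [IsClosedImmersion (lift f g).left]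
    [IsSchemeTheoreticallyDominant s.left] [QuasiCompact s.left] (c : U ⟶ X) [IsAffine U.left] (t : W ⟶ U)
    (ht : t ≫ c = s ≫ f) (j : Fin (N + 1)) {σ : Type} (u : σ → Γ(U.left, ⊤)) (l : σ → Fin (N + 1))
    (hu : Function.Surjective (MvPolynomial.eval₂Hom (str U) u))
    (hl : ∀ e, H (l e) = t.left.appTop.hom (u e) * H j) : IsClosedImmersion (pullback.snd g (dj N k j)).left := by
  let v : pullback g (dj N k j) ⟶ X ⊗ D N k j := lift (pullback.fst _ _ ≫ f) (pullback.snd _ _)
  have sqV : IsPullback (pullback.fst g (dj N k j)) v (lift f g) (X ◁ dj N k j) :=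
    isPullback_lift f g (dj N k j) (IsPullback.of_hasPullback g (dj N k j))
  have hv : IsClosedImmersion v.left :=
    MorphismProperty.of_isPullback (P := @IsClosedImmersion) (sqV.map (Over.forget _)) ‹_›
  let Z := pullback (toA U u) (toA (D N k j) (fun e => cd N k j (l e)))
  have hz2 : IsClosedImmersion (pullback.snd (toA U u) (toA (D N k j) (fun e => cd N k j (l e)))).left :=
    MorphismProperty.of_isPullback (P := @IsClosedImmersion) ((IsPullback.of_hasPullback _ _).map (Over.forget _))
      (isClosedImmersion_toA U u hu)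
  let z : Z ⟶ X ⊗ D N k j := lift (pullback.fst _ _ ≫ c) (pullback.snd _ _)
  have hz : IsClosedImmersion z.left := by
    have h1 : IsSeparated (snd X (D N k j)).left := K395.Act.snd_mem @IsSeparated X _ inferInstance
    have h2 : IsClosedImmersion (z.left ≫ (snd X (D N k j)).left) := by
      rw [← Over.comp_left, lift_snd]
      exact hz2
    exact IsClosedImmersion.of_comp z.left (snd X (D N k j)).left
  have hop : IsOpenImmersion (pullback.fst g (dj N k j)).left :=
    MorphismProperty.of_isPullback (P := @IsOpenImmersion)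
      ((IsPullback.of_hasPullback g (dj N k j)).flip.map (Over.forget _)) (isOpenImmersion_chart N k j)
  let p1 := pullback.fst s (pullback.fst g (dj N k j))
  let p2 := pullback.snd s (pullback.fst g (dj N k j))
  have hsq : IsPullback p1.left p2.left s.left (pullback.fst g (dj N k j)).left :=
    (IsPullback.of_hasPullback s (pullback.fst g (dj N k j))).map (Over.forget _)
  have hp2 : IsSchemeTheoreticallyDominant p2.left := .of_isPullback hsq
  have hc : (p2 ≫ pullback.snd g (dj N k j)) ≫ dj N k j = p1 ≫ s ≫ g := by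
    rw [Category.assoc, ← pullback.condition, ← Category.assoc, ← pullback.condition, Category.assoc]
  have hy : (p1 ≫ t) ≫ toA U u = (p2 ≫ pullback.snd g (dj N k j)) ≫ toA (D N k j) (fun e => cd N k j (l e)) := by
    rw [comp_toA, comp_toA]
    congr 1
    funext e
    obtain ⟨h1, h2⟩ := coords g s H i₀ h₀ hs p1 j _ hc (l e)
    rw [hl e, map_mul, mul_comm] at h2
    have h3 := h1.mul_left_cancel h2
    rw [Function.comp_apply, Function.comp_apply, ← h3, Over.comp_left, Scheme.Hom.comp_appTop]
    rfl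
  obtain ⟨b, hb⟩ := exists_lift_over p2 v z (pullback.lift _ _ hy) (by
    ext1
    · rw [Category.assoc, lift_fst, pullback.lift_fst_assoc, Category.assoc, ht, Category.assoc, lift_fst,
        pullback.condition_assoc]
    · rw [Category.assoc, lift_snd, pullback.lift_snd, Category.assoc, lift_snd])
  have hbc : IsClosedImmersion b.left := by
    have : IsClosedImmersion (b.left ≫ z.left) := by rw [← Over.comp_left, hb]; exact hv
    exact IsClosedImmersion.of_comp b.left z.left
  have h3 : pullback.snd g (dj N k j) = b ≫ pullback.snd (toA U u) (toA (D N k j) (fun e => cd N k j (l e))) := by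
    have h4 := congr($hb ≫ snd _ _)
    rw [Category.assoc, lift_snd, lift_snd] at h4
    exact h4.symm
  rw [h3, Over.comp_left]
  infer_instance

include hs in
theorem mem_range_chart [IsSchemeTheoreticallyDominant s.left] [QuasiCompact s.left] (c : U ⟶ X)
    [IsOpenImmersion c.left] (t : W ⟶ U) (ht : t ≫ c = s ≫ f) (l j : Fin (N + 1)) (u : Γ(U.left, ⊤))
    (hl : H l = t.left.appTop.hom u * H j) (x : X'.left) (hf : f.left x ∈ Set.range c.left)
    (hg : g.left x ∈ Set.range (chart N k l)) : g.left x ∈ Set.range (chart N k j) := by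
  have hmono : Mono c := by
    have : Mono ((Over.forget _).map c) := inferInstanceAs (Mono c.left)
    exact (Over.forget _).mono_of_mono_map this
  let a1 := pullback.fst f c
  let b1 := pullback.snd f c
  have sq1 : IsPullback a1.left b1.left f.left c.left := (IsPullback.of_hasPullback f c).map (Over.forget _)
  let a2 := pullback.fst (a1 ≫ g) (dj N k l)
  let b2 := pullback.snd (a1 ≫ g) (dj N k l)
  have sq2 : IsPullback a2.left b2.left (a1 ≫ g).left (dj N k l).left :=
    (IsPullback.of_hasPullback (a1 ≫ g) (dj N k l)).map (Over.forget _)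
  have ho1 : IsOpenImmersion a1.left := MorphismProperty.of_isPullback (P := @IsOpenImmersion) sq1.flip ‹_›
  have ho2 : IsOpenImmersion a2.left :=
    MorphismProperty.of_isPullback (P := @IsOpenImmersion) sq2.flip (isOpenImmersion_chart N k l)
  let m := a2 ≫ a1
  have hm : IsOpenImmersion m.left := by
    rw [Over.comp_left]; infer_instance
  have e1 : m ≫ f = (a2 ≫ b1) ≫ c := by rw [Category.assoc, pullback.condition, Category.assoc]
  have e2 : m ≫ g = b2 ≫ dj N k l := by rw [Category.assoc, pullback.condition]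
  -- a point over `x`
  obtain ⟨z, hz⟩ : ∃ z, m.left z = x := by
    obtain ⟨y, hy⟩ := hf
    obtain ⟨x1, hx1, -⟩ := Scheme.exists_preimage_of_isPullback sq1 x y hy.symm
    obtain ⟨y2, hy2⟩ := hg
    obtain ⟨x2, hx2, -⟩ := Scheme.exists_preimage_of_isPullback sq2 x1 y2 (by
      rw [Over.comp_left, Scheme.Hom.comp_apply, hx1]
      exact hy2.symm)
    exact ⟨x2, by rw [Over.comp_left, Scheme.Hom.comp_apply, hx2, hx1]⟩
  let p1 := pullback.fst s m
  let p2 := pullback.snd s m
  have hsq : IsPullback p1.left p2.left s.left m.left := (IsPullback.of_hasPullback s m).map (Over.forget _)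
  have hp2 : IsSchemeTheoreticallyDominant p2.left := .of_isPullback hsq
  have hp2' : QuasiCompact p2.left := MorphismProperty.of_isPullback (P := @QuasiCompact) hsq ‹_›
  have hc : (p2 ≫ b2) ≫ dj N k l = p1 ≫ s ≫ g := by
    rw [Category.assoc, ← e2, ← Category.assoc, ← pullback.condition, Category.assoc]
  obtain ⟨h1, h2⟩ := coords g s H i₀ h₀ hs p1 l _ hc j
  have h3 : p1 ≫ t = p2 ≫ a2 ≫ b1 := by
    rw [← cancel_mono c, Category.assoc, ht, ← Category.assoc, pullback.condition, Category.assoc, e1]
    simp only [Category.assoc]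
    rfl
  have h4 : p1.left.appTop.hom (t.left.appTop.hom u) = p2.left.appTop.hom ((a2 ≫ b1).left.appTop.hom u) := by
    have h5 := congr(($h3).left.appTop.hom u)
    rw [Over.comp_left, Over.comp_left, Scheme.Hom.comp_appTop, Scheme.Hom.comp_appTop] at h5
    exact h5
  have h6 : (a2 ≫ b1).left.appTop.hom u * b2.left.appTop.hom (cd N k l j) = 1 := by
    apply p2.left.app_injective ⊤
    change p2.left.appTop.hom _ = p2.left.appTop.hom _
    rw [map_mul, map_one, ← h4]
    have h7 : p2.left.appTop.hom (b2.left.appTop.hom (cd N k l j)) = (p2 ≫ b2).left.appTop.hom (cd N k l j) := by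
      rw [Over.comp_left, Scheme.Hom.comp_appTop]; rfl
    rw [h7]
    have h8 := congrArg p1.left.appTop.hom hl
    rw [map_mul, h2] at h8
    refine h1.mul_left_cancel ?_
    rw [mul_one]
    nth_rw 2 [h8]
    ring
  have h9 : IsUnit (b2.left.appTop.hom (cd N k l j)) := IsUnit.of_mul_eq_one_right _ h6
  have h10 : m ≫ g = pt _ (b2.left.appTop.hom ∘ cd N k l) j h9 := by
    rw [e2, comp_dj]
    exact pt_eq _ _ _ _ _ _ _ 1 (one_smul _ _).symm
  rw [← hz, ← Scheme.Hom.comp_apply, ← Over.comp_left, h10, pt_left, Scheme.Hom.comp_apply]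
  exact vp_range _ _ _ _ _

include hs in
/-- The criterion. -/
theorem isClosedImmersion [IsProper X.hom] [IsClosedImmersion (lift f g).left]
    [IsSchemeTheoreticallyDominant s.left] [QuasiCompact s.left] {ι : Type*}
    (V : ι → Over (Spec (CommRingCat.of k))) (c : ∀ i, V i ⟶ X) (hc : ∀ i, IsOpenImmersion (c i).left)
    (hV : ∀ i, IsAffine (V i).left) (hcov : ∀ x : X.left, ∃ i, x ∈ Set.range (c i).left)
    (t : ∀ i, W ⟶ V i) (ht : ∀ i, t i ≫ c i = s ≫ f)
    (hgood : ∀ i l, ∃ (j : Fin (N + 1)) (u : Γ((V i).left, ⊤)), H l = (t i).left.appTop.hom u * H j ∧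
      ∃ (σ : Type) (v : σ → Γ((V i).left, ⊤)) (m : σ → Fin (N + 1)),
        Function.Surjective (MvPolynomial.eval₂Hom (str (V i)) v) ∧
        ∀ e, H (m e) = (t i).left.appTop.hom (v e) * H j) : IsClosedImmersion g.left := by
  have hP : IsSeparated (P N k).hom := inferInstanceAs (IsSeparated (CohB1.ProjSpace.toSpec N k))
  have hpr : IsProper g.left := by
    have h1 : g = lift f g ≫ snd _ _ := (lift_snd _ _).symm
    have h2 : IsProper (snd X (P N k)).left := K395.Act.snd_mem @IsProper X _ inferInstance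
    rw [h1, Over.comp_left]
    infer_instance
  let J : Set (Fin (N + 1)) := {j | IsClosedImmersion (pullback.snd g (dj N k j)).left}
  have hJ : ∀ x : X'.left, ∃ j ∈ J, g.left x ∈ Set.range (chart N k j) := by
    intro x
    obtain ⟨i, hi⟩ := hcov (f.left x)
    obtain ⟨l, hl⟩ := exists_mem_range N k (g.left x)
    obtain ⟨j, u, h1, σ, v, m, h2, h3⟩ := hgood i l
    have := hc i
    have := hV i
    exact ⟨j, isClosedImmersion_snd f g s H i₀ h₀ hs (c i) (t i) (ht i) j v m h2 h3,
      mem_range_chart f g s H i₀ h₀ hs (c i) (t i) (ht i) l j u h1 x hi hl⟩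
  rw [IsClosedImmersion.iff_isProper_and_mono]
  refine ⟨hpr, ?_⟩
  let O : Option J → (P N k).left.Opens := fun o =>
    match o with
    | some j => (chart N k j.1).opensRange
    | none => ⟨(Set.range g.left)ᶜ, g.left.isClosedMap.isClosed_range.isOpen_compl⟩
  have hO : iSup O = ⊤ := by
    rw [eq_top_iff]
    intro y _
    rw [TopologicalSpace.Opens.mem_iSup]
    by_cases hy : y ∈ Set.range g.left
    · obtain ⟨x, rfl⟩ := hy
      obtain ⟨j, hj, hx⟩ := hJ x
      exact ⟨some ⟨j, hj⟩, hx⟩
    · exact ⟨none, hy⟩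
  refine IsZariskiLocalAtTarget.of_iSup_eq_top (P := MorphismProperty.monomorphisms Scheme) O hO fun o => ?_
  rw [MorphismProperty.monomorphisms.iff]
  match o with
  | some j =>
    have h1 : IsClosedImmersion (pullback.snd g (dj N k j.1)).left := j.2
    have sq : IsPullback (pullback.fst g (dj N k j.1)).left (pullback.snd g (dj N k j.1)).left g.left (chart N k j.1) :=
      (IsPullback.of_hasPullback g (dj N k j.1)).map (Over.forget _)
    have h2 : IsClosedImmersion (pullback.snd g.left (chart N k j.1)) := by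
      rw [← sq.isoPullback_inv_snd]
      infer_instance
    have h3 : IsClosedImmersion (g.left ∣_ (chart N k j.1).opensRange) :=
      ((MorphismProperty.arrow_mk_iso_iff @IsClosedImmersion (morphismRestrictOpensRange g.left (chart N k j.1))).2 h2)
    change Mono (g.left ∣_ (chart N k j.1).opensRange)
    infer_instance
  | none =>
    have h1 : IsEmpty ↥(g.left ⁻¹ᵁ O none : X'.left.Opens).toScheme := ⟨fun x => x.2 ⟨x.1, rfl⟩⟩
    have h2 : IsClosedImmersion (g.left ∣_ O none) := inferInstance
    infer_instance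

end

end K407.ChowProj
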