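import Groth.Agent.AlgGrp.K407.ChowProj
import Groth.Agent.AlgGrp.K407.Chart

/-!
# The equivariant Chow lemma from equivariant generators of affine opens
-/

set_option autoImplicit false
universe u
open CategoryTheory CategoryTheory.Limits AlgebraicGeometry MonoidalCategory CartesianMonoidalCategory MonObj GrpObj

namespace K407.EqChow

open K407.PnPoint K407.GraphClos K407.ChowProj Groth.Agent.Sga5.ProjChart

section Open

variable {k : Type u} [Field k]

/-- The structure map of the functions on an open. -/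
noncomputable def kmap {X : Over (Spec (CommRingCat.of k))} (U : X.left.Opens) :
    k →+* Γ(X.left, U) :=
  (X.hom.appLE ⊤ U le_top).hom.comp (Scheme.ΓSpecIso (CommRingCat.of k)).inv.hom

/-- Functions on an open as global functions. -/
noncomputable def res {T : Over (Spec (CommRingCat.of k))} (U : T.left.Opens) : Γ(T.left, U) →+* Γ((sub U).left, ⊤) :=
  (Scheme.Hom.appLE (Scheme.Opens.ι (X := T.left) U) U ⊤ (Scheme.Opens.ι_preimage_self (X := T.left) U).ge).hom

theorem res_surjective {T : Over (Spec (CommRingCat.of k))} (U : T.left.Opens) : Function.Surjective (res U) := by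
  have h : IsIso (Scheme.Hom.appLE (Scheme.Opens.ι (X := T.left) U) U ⊤ (Scheme.Opens.ι_preimage_self (X := T.left) U).ge) :=
    inferInstance
  exact (ConcreteCategory.bijective_of_isIso
    (Scheme.Hom.appLE (Scheme.Opens.ι (X := T.left) U) U ⊤ (Scheme.Opens.ι_preimage_self (X := T.left) U).ge)).2

theorem res_kmap {T : Over (Spec (CommRingCat.of k))} (U : T.left.Opens) : (res U).comp (kmap U) = str (sub U) := by
  have h1 : T.hom.appLE ⊤ U le_top ≫
      Scheme.Hom.appLE (Scheme.Opens.ι (X := T.left) U) U ⊤ (Scheme.Opens.ι_preimage_self (X := T.left) U).ge =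
      (sub U).hom.appTop := by
    rw [Scheme.Hom.appLE_comp_appLE]
    exact (Scheme.Hom.app_eq_appLE _).symm
  rw [str, ← h1]
  rfl

/-- Pullbacks of functions on opens. -/
theorem pull_res {T Y Z : Over (Spec (CommRingCat.of k))} (f : Y ⟶ Z) (U : Z.left.Opens) (O : Y.left.Opens)
    (h : O ≤ f.left ⁻¹ᵁ U) (y : T ⟶ sub U) (z : T ⟶ sub O) (e : y ≫ inc U = z ≫ inc O ≫ f) (s : Γ(Z.left, U)) :
    y.left.appTop.hom (res U s) = z.left.appTop.hom (res O (f.left.appLE U O h s)) := by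
  have h1 : Scheme.Hom.appLE (Scheme.Opens.ι (X := Z.left) U) U ⊤ (Scheme.Opens.ι_preimage_self (X := Z.left) U).ge ≫
      y.left.appTop = (y ≫ inc U).left.appLE U ⊤ (by
        rw [Over.comp_left]
        exact fun x _ => (y.left x).2) := by
    change _ ≫ y.left.app ⊤ = _
    rw [Scheme.Hom.app_eq_appLE, Scheme.Hom.appLE_comp_appLE]
    rfl
  have h2 : f.left.appLE U O h ≫ Scheme.Hom.appLE (Scheme.Opens.ι (X := Y.left) O) O ⊤
      (Scheme.Opens.ι_preimage_self (X := Y.left) O).ge ≫ z.left.appTop = (z ≫ inc O ≫ f).left.appLE U ⊤ (by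
        rw [← e, Over.comp_left]
        exact fun x _ => (y.left x).2) := by
    change _ ≫ _ ≫ z.left.app ⊤ = _
    rw [Scheme.Hom.app_eq_appLE, Scheme.Hom.appLE_comp_appLE, Scheme.Hom.appLE_comp_appLE]
    rfl
  have h3 := congr($(h1).hom s)
  have h4 := congr($(h2).hom s)
  refine h3.trans (Eq.trans ?_ h4.symm)
  congr 2
  simp only [e]

theorem pull_res_top {T Y Z : Over (Spec (CommRingCat.of k))} (f : Y ⟶ Z) (O : Y.left.Opens)
    (y : T ⟶ Z) (z : T ⟶ sub O) (e : y = z ≫ inc O ≫ f) (s : Γ(Z.left, ⊤)) :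
    y.left.appTop.hom s = z.left.appTop.hom (res O (f.left.appLE ⊤ O le_top s)) := by
  have h2 : f.left.appLE ⊤ O le_top ≫ Scheme.Hom.appLE (Scheme.Opens.ι (X := Y.left) O) O ⊤
      (Scheme.Opens.ι_preimage_self (X := Y.left) O).ge ≫ z.left.appTop = (z ≫ inc O ≫ f).left.appTop := by
    change _ ≫ _ ≫ z.left.app ⊤ = (z ≫ inc O ≫ f).left.app ⊤
    rw [Scheme.Hom.app_eq_appLE, Scheme.Hom.appLE_comp_appLE, Scheme.Hom.appLE_comp_appLE, Scheme.Hom.app_eq_appLE]
    rfl
  rw [e, ← h2]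
  rfl

end Open

section Rel

variable {k : Type u} [Field k] {G X : Over (Spec (CommRingCat.of k))} [GrpObj G] (a : AlgGrp.Action G X)

/-- The functions `h` on `V` are transformed under the action by the matrix `m`, up to a common unit. -/
def Rel {V : Over (Spec (CommRingCat.of k))} (c : V ⟶ X) {J : Type} [Fintype J] (h : J → Γ(V.left, ⊤))
    (m : Matrix J J Γ(G.left, ⊤)) : Prop :=
  ∀ (T : Over (Spec (CommRingCat.of k))) (g : T ⟶ G) (p q : T ⟶ V), q ≫ c = lift g (p ≫ c) ≫ a.act →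
    ∃ F : Γ(T.left, ⊤), IsUnit F ∧
      ∀ j, q.left.appTop.hom (h j) = F * ∑ l, g.left.appTop.hom (m j l) * p.left.appTop.hom (h l)

theorem rel_of_opens (U : X.left.Opens) {J : Type} [Fintype J] (h : J → Γ(X.left, U))
    (m : Matrix J J Γ(G.left, ⊤))
    (F : Γ((G ⊗ X).left, a.act.left ⁻¹ᵁ U ⊓ (snd G X).left ⁻¹ᵁ U)) (hF : IsUnit F)
    (hrel : ∀ j, a.act.left.appLE U (a.act.left ⁻¹ᵁ U ⊓ (snd G X).left ⁻¹ᵁ U) inf_le_left (h j) =
        F * ∑ l, (fst G X).left.appLE ⊤ (a.act.left ⁻¹ᵁ U ⊓ (snd G X).left ⁻¹ᵁ U) le_top (m j l) *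
          (snd G X).left.appLE U (a.act.left ⁻¹ᵁ U ⊓ (snd G X).left ⁻¹ᵁ U) inf_le_right (h l)) :
    Rel a (inc U) (fun j => res U (h j)) m := by
  intro T g p q hq
  have hz : Set.range (lift g (p ≫ inc U)).left ⊆
      ((a.act.left ⁻¹ᵁ U ⊓ (snd G X).left ⁻¹ᵁ U : (G ⊗ X).left.Opens) : Set (G ⊗ X).left) := by
    rintro _ ⟨x, rfl⟩
    constructor
    · change a.act.left ((lift g (p ≫ inc U)).left x) ∈ U
      rw [← Scheme.Hom.comp_apply, ← Over.comp_left, ← hq]
      exact (q.left x).2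
    · change (snd G X).left ((lift g (p ≫ inc U)).left x) ∈ U
      rw [← Scheme.Hom.comp_apply, ← Over.comp_left, lift_snd]
      exact (p.left x).2
  let z' := IsOpenImmersion.lift (Scheme.Opens.ι (X := (G ⊗ X).left) (a.act.left ⁻¹ᵁ U ⊓ (snd G X).left ⁻¹ᵁ U))
    (lift g (p ≫ inc U)).left (by rwa [Scheme.Opens.range_ι])
  have hz' : z' ≫ Scheme.Opens.ι (X := (G ⊗ X).left) (a.act.left ⁻¹ᵁ U ⊓ (snd G X).left ⁻¹ᵁ U) =
      (lift g (p ≫ inc U)).left := IsOpenImmersion.lift_fac _ _ _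
  let z : T ⟶ sub (a.act.left ⁻¹ᵁ U ⊓ (snd G X).left ⁻¹ᵁ U) := Over.homMk z' (by
    change z' ≫ Scheme.Opens.ι (X := (G ⊗ X).left) _ ≫ (G ⊗ X).hom = _
    rw [reassoc_of% hz', Over.w])
  have hzi : z ≫ inc _ = lift g (p ≫ inc U) := Over.OverMorphism.ext hz'
  refine ⟨z.left.appTop.hom (res _ F), (hF.map (res _)).map z.left.appTop.hom, fun j => ?_⟩
  rw [pull_res a.act U _ inf_le_left q z (by rw [reassoc_of% hzi, hq]) (h j)]
  rw [hrel j, map_mul, map_mul, map_sum, map_sum]
  congr 1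
  refine Finset.sum_congr rfl fun l _ => ?_
  rw [map_mul, map_mul]
  congr 1
  · exact (pull_res_top (fst G X) _ g z (by rw [reassoc_of% hzi, lift_fst]) _).symm
  · exact (pull_res (snd G X) U _ inf_le_right p z (by rw [reassoc_of% hzi, lift_snd]) _).symm

theorem Rel.prod {I : Type} [Fintype I] [DecidableEq I] {V : I → Over (Spec (CommRingCat.of k))} {c : ∀ i, V i ⟶ X}
    {J : I → Type} [∀ i, Fintype (J i)] [∀ i, DecidableEq (J i)] {h : ∀ i, J i → Γ((V i).left, ⊤)}
    {m : ∀ i, Matrix (J i) (J i) Γ(G.left, ⊤)} (hrel : ∀ i, Rel a (c i) (h i) (m i))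
    {W : Over (Spec (CommRingCat.of k))} (w : W ⟶ X) (t : ∀ i, W ⟶ V i) (ht : ∀ i, t i ≫ c i = w) :
    Rel a w (fun x : ∀ i, J i => ∏ i, (t i).left.appTop.hom (h i (x i)))
      (fun x y => ∏ i, m i (x i) (y i)) := by
  intro T g p q hq
  have h1 : ∀ i, ∃ F : Γ(T.left, ⊤), IsUnit F ∧
      ∀ j, (q ≫ t i).left.appTop.hom (h i j) = F * ∑ l, g.left.appTop.hom (m i j l) *
        (p ≫ t i).left.appTop.hom (h i l) := fun i => hrel i T g (p ≫ t i) (q ≫ t i) (by
    rw [Category.assoc, ht, Category.assoc, ht, hq])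
  choose F hF hj using h1
  refine ⟨∏ i, F i, ?_, fun x => ?_⟩
  · rw [IsUnit.prod_univ_iff]
    exact hF
  have h2 : ∀ {S : Over (Spec (CommRingCat.of k))} (q : S ⟶ W) (i : I) (s : Γ((V i).left, ⊤)),
      q.left.appTop.hom ((t i).left.appTop.hom s) = (q ≫ t i).left.appTop.hom s := by
    intro S q i s
    rw [Over.comp_left, Scheme.Hom.comp_appTop]
    rfl
  simp only [map_prod, h2, hj]
  rw [Finset.prod_mul_distrib, Finset.prod_univ_sum, Fintype.piFinset_univ]
  congr 1
  refine Finset.sum_congr rfl fun y _ => ?_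
  rw [Finset.prod_mul_distrib]

theorem Rel.reindex {V : Over (Spec (CommRingCat.of k))} {c : V ⟶ X} {J J' : Type} [Fintype J] [Fintype J']
    {h : J → Γ(V.left, ⊤)} {m : Matrix J J Γ(G.left, ⊤)} (hrel : Rel a c h m) (e : J' ≃ J) :
    Rel a c (h ∘ e) (m.submatrix e e) := by
  intro T g p q hq
  obtain ⟨F, hF, h1⟩ := hrel T g p q hq
  refine ⟨F, hF, fun j => ?_⟩
  rw [Function.comp_apply, h1]
  congr 1
  exact (e.sum_comp _).symm

theorem isUnit_prod_matrix {R : Type*} [CommRing R] {I : Type} [Fintype I] [DecidableEq I] {J : I → Type}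
    [∀ i, Fintype (J i)] [∀ i, DecidableEq (J i)] {m m' : ∀ i, Matrix (J i) (J i) R} (h : ∀ i, m i * m' i = 1) :
    (show Matrix (∀ i, J i) (∀ i, J i) R from fun x y => ∏ i, m i (x i) (y i)) *
      (show Matrix (∀ i, J i) (∀ i, J i) R from fun x y => ∏ i, m' i (x i) (y i)) = 1 := by
  ext x y
  rw [Matrix.mul_apply]
  have h1 : ∀ i, ∑ z, m i (x i) z * m' i z (y i) = (1 : Matrix (J i) (J i) R) (x i) (y i) := by
    intro i
    rw [← h i, Matrix.mul_apply]
  calc ∑ z : ∀ i, J i, (∏ i, m i (x i) (z i)) * ∏ i, m' i (z i) (y i)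
      = ∑ z : ∀ i, J i, ∏ i, m i (x i) (z i) * m' i (z i) (y i) := by
        refine Finset.sum_congr rfl fun z _ => ?_
        rw [Finset.prod_mul_distrib]
    _ = ∏ i, ∑ z, m i (x i) z * m' i z (y i) := by
        rw [Finset.prod_univ_sum, Fintype.piFinset_univ]
    _ = ∏ i, (1 : Matrix (J i) (J i) R) (x i) (y i) := Finset.prod_congr rfl fun i _ => h1 i
    _ = (1 : Matrix (∀ i, J i) (∀ i, J i) R) x y := by
        by_cases hxy : x = y
        · subst hxy
          simp
        · rw [Matrix.one_apply_ne hxy]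
          obtain ⟨i, hi⟩ := Function.ne_iff.mp hxy
          exact Finset.prod_eq_zero (Finset.mem_univ i) (Matrix.one_apply_ne hi)

end Rel

section Main

variable {k : Type u} [Field k]

/-- Factorization through an open. -/
theorem exists_liftSub {T X : Over (Spec (CommRingCat.of k))} (f : T ⟶ X) (U : X.left.Opens) (h : ∀ x, f.left x ∈ U) :
    ∃ g : T ⟶ sub U, g ≫ inc U = f := by
  let z' := IsOpenImmersion.lift (Scheme.Opens.ι (X := X.left) U) f.left (by
    rw [Scheme.Opens.range_ι]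
    rintro _ ⟨x, rfl⟩
    exact h x)
  have hz' : z' ≫ Scheme.Opens.ι (X := X.left) U = f.left := IsOpenImmersion.lift_fac _ _ _
  refine ⟨Over.homMk z' ?_, Over.OverMorphism.ext hz'⟩
  change z' ≫ Scheme.Opens.ι (X := X.left) _ ≫ X.hom = _
  rw [reassoc_of% hz', Over.w]

theorem liftSub_unique {T X : Over (Spec (CommRingCat.of k))} {U : X.left.Opens} {g g' : T ⟶ sub U}
    (h : g ≫ inc U = g' ≫ inc U) : g = g' := by
  have : Mono (inc U) := by
    have : Mono ((Over.forget _).map (inc U)) := inferInstanceAs (Mono (Scheme.Opens.ι (X := X.left) U))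
    exact (Over.forget _).mono_of_mono_map this
  exact (cancel_mono (inc U)).1 h

/-- The hypothesis: equivariant generators of an affine open. -/
def NodeA {G X : Over (Spec (CommRingCat.of k))} [GrpObj G] (a : AlgGrp.Action G X) (U : X.left.Opens) : Prop :=
    ∃ (n : ℕ) (h : Fin (n + 1) → Γ(X.left, U)) (m : Matrix (Fin (n + 1)) (Fin (n + 1)) Γ(G.left, ⊤))
      (F : Γ((G ⊗ X).left, a.act.left ⁻¹ᵁ U ⊓ (snd G X).left ⁻¹ᵁ U)),
      h 0 = 1 ∧ Function.Surjective (MvPolynomial.eval₂Hom (kmap U) h) ∧ IsUnit m ∧ IsUnit F ∧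
      ∀ j, a.act.left.appLE U (a.act.left ⁻¹ᵁ U ⊓ (snd G X).left ⁻¹ᵁ U) inf_le_left (h j) =
        F * ∑ l, (fst G X).left.appLE ⊤ (a.act.left ⁻¹ᵁ U ⊓ (snd G X).left ⁻¹ᵁ U) le_top (m j l) *
          (snd G X).left.appLE U (a.act.left ⁻¹ᵁ U ⊓ (snd G X).left ⁻¹ᵁ U) inf_le_right (h l)

theorem NodeA.exists_rel {G X : Over (Spec (CommRingCat.of k))} [GrpObj G] {a : AlgGrp.Action G X}
    {U : X.left.Opens} (hU : NodeA a U) : ∃ (n : ℕ) (h : Fin (n + 1) → Γ((sub U).left, ⊤))
      (m m' : Matrix (Fin (n + 1)) (Fin (n + 1)) Γ(G.left, ⊤)), h 0 = 1 ∧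
      Function.Surjective (MvPolynomial.eval₂Hom (str (sub U)) h) ∧ m * m' = 1 ∧ m' * m = 1 ∧ Rel a (inc U) h m := by
  obtain ⟨n, h, m, F, h0, hs, hm, hF, hrel⟩ := hU
  obtain ⟨m, rfl⟩ := hm
  refine ⟨n, fun j => res U (h j), m, (m⁻¹ : (Matrix (Fin (n + 1)) (Fin (n + 1)) Γ(G.left, ⊤))ˣ),
    (congrArg (res U) h0).trans (map_one _),
    ?_, m.mul_inv, m.inv_mul, rel_of_opens a U h m F hF hrel⟩
  have h1 : MvPolynomial.eval₂Hom (str (sub U)) (fun j => res U (h j)) =
      (res U).comp (MvPolynomial.eval₂Hom (kmap U) h) := by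
    refine MvPolynomial.ringHom_ext (fun c => ?_) (fun i => ?_)
    · rw [RingHom.comp_apply, MvPolynomial.eval₂Hom_C, MvPolynomial.eval₂Hom_C, ← res_kmap]
      rfl
    · rw [RingHom.comp_apply, MvPolynomial.eval₂Hom_X', MvPolynomial.eval₂Hom_X']
  rw [h1]
  exact (res_surjective U).comp hs

theorem prod_update {R : Type*} [CommRing R] {I : Type} [Fintype I] [DecidableEq I] {n : I → ℕ}
    (h : ∀ i, Fin (n i + 1) → R) (h0 : ∀ i, h i 0 = 1) (x : ∀ i, Fin (n i + 1)) (i : I) (b : Fin (n i + 1)) :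
    ∏ i', h i' (Function.update x i b i') = h i b * ∏ i', h i' (Function.update x i 0 i') := by
  rw [← Finset.mul_prod_erase _ _ (Finset.mem_univ i), ← Finset.mul_prod_erase _ (fun i' => h i' (Function.update x i 0 i'))
    (Finset.mem_univ i), Function.update_self, Function.update_self, h0, _root_.one_mul]
  congr 1
  refine Finset.prod_congr rfl fun i' hi' => ?_
  rw [Function.update_of_ne (Finset.ne_of_mem_erase hi'), Function.update_of_ne (Finset.ne_of_mem_erase hi')]

theorem exists_cover (X : Scheme.{u}) [CompactSpace X] :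
    ∃ (r : ℕ) (U : Fin r → X.Opens), (∀ i, IsAffineOpen (U i)) ∧ (∀ i, (U i : Set X).Nonempty) ∧
      ∀ x, ∃ i, x ∈ U i := by
  have h : ∀ x : X, ∃ U : X.Opens, IsAffineOpen U ∧ x ∈ U := by
    intro x
    obtain ⟨_, ⟨V, hV, rfl⟩, hxV, -⟩ :=
      X.isBasis_affineOpens.exists_subset_of_mem_open (show x ∈ (⊤ : X.Opens) from trivial) isOpen_univ
    exact ⟨V, hV, hxV⟩
  choose U hU hx using h
  obtain ⟨s, hs⟩ := isCompact_univ.elim_finite_subcover (fun x => (U x : Set X)) (fun x => (U x).2)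
    (fun x _ => Set.mem_iUnion.2 ⟨x, hx x⟩)
  refine ⟨s.card, fun i => U (s.equivFin.symm i), fun i => hU _, fun i => ⟨_, hx _⟩, fun x => ?_⟩
  obtain ⟨y, hy⟩ := Set.mem_iUnion.1 (hs (Set.mem_univ x))
  obtain ⟨hys, hxy⟩ := Set.mem_iUnion.1 hy
  refine ⟨s.equivFin ⟨y, hys⟩, ?_⟩
  change x ∈ U (s.equivFin.symm (s.equivFin ⟨y, hys⟩))
  rwa [Equiv.symm_apply_apply]

variable [IsAlgClosed k]

theorem main (G X : Over (Spec (CommRingCat.of k))) [GrpObj G] [IsAffine G.left] [Smooth G.hom]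
    [ConnectedSpace ↥G.left] [IsIntegral X.left] [IsProper X.hom] (a : AlgGrp.Action G X)
    (hA : ∀ U : X.left.Opens, IsAffineOpen U → (U : Set X.left).Nonempty → NodeA a U) :
    ∃ (X' : Over (Spec (CommRingCat.of k))) (a' : AlgGrp.Action G X') (f : X' ⟶ X) (n : ℕ)
      (c : X'.left ⟶ CohB1.ProjSpace n k),
      IsIntegral X'.left ∧ IsClosedImmersion c ∧
      c ≫ CohB1.ProjSpace.toSpec n k = X'.hom ∧ a'.act ≫ f = (G ◁ f) ≫ a.act ∧
      ∃ U : X.left.Opens, (U : Set ↥X.left).Nonempty ∧ IsIso (f.left ∣_ U) := by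
  have hC : CompactSpace X.left := QuasiCompact.compactSpace_of_compactSpace X.hom
  have hN : IsLocallyNoetherian X.left := LocallyOfFiniteType.isLocallyNoetherian X.hom
  have : IsNoetherian X.left := {}
  have hGi : IsIntegral G.left := K407.Chart.isIntegral_of_connected G
  have hGq : QuasiCompact G.hom := inferInstance
  have hGs := K395.Dense.isSeparated_hom G
  obtain ⟨r, U, hU, hne, hcov⟩ := exists_cover X.left
  choose n h m m' h0 hs hm hm' hrel using fun i => (hA (U i) (hU i) (hne i)).exists_rel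
  -- the intersection
  let W : X.left.Opens := Finset.univ.inf U
  have hWU : ∀ i, W ≤ U i := fun i => Finset.inf_le (Finset.mem_univ i)
  have hη : ∀ V : X.left.Opens, (V : Set X.left).Nonempty → genericPoint X.left ∈ V := fun V hV => by
    obtain ⟨x, hx⟩ := hV
    exact (genericPoint_specializes x).mem_open V.2 hx
  have hηW : genericPoint X.left ∈ W := by
    have h1 : genericPoint X.left ∈ ((Finset.univ.inf U : X.left.Opens) : Set X.left) := by
      rw [TopologicalSpace.Opens.coe_finset_inf, Finset.inf_set_eq_iInter]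
      simp only [Set.mem_iInter]
      exact fun i _ => hη _ (hne i)
    exact h1
  have hWn : Nonempty ↥W := ⟨⟨_, hηW⟩⟩
  choose t ht using fun i => exists_liftSub (inc W) (U i) (fun x => hWU i x.2)
  let HJ : (∀ i, Fin (n i + 1)) → Γ((sub W).left, ⊤) := fun x => ∏ i, (t i).left.appTop.hom (h i (x i))
  have hJ : Rel a (inc W) HJ (fun x y => ∏ i, m i (x i) (y i)) := Rel.prod a hrel (inc W) t ht
  obtain ⟨N, hN⟩ : ∃ N, Fintype.card (∀ i, Fin (n i + 1)) = N + 1 :=
    Nat.exists_eq_succ_of_ne_zero Fintype.card_ne_zero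
  let e : Fin (N + 1) ≃ (∀ i, Fin (n i + 1)) := (Fintype.equivFinOfCardEq hN).symm
  let H : Fin (N + 1) → Γ((sub W).left, ⊤) := HJ ∘ e
  have hH := hJ.reindex a e
  let i₀ : Fin (N + 1) := e.symm 0
  have hi₀ : H i₀ = 1 := by
    change ∏ i, (t i).left.appTop.hom (h i ((e (e.symm 0)) i)) = 1
    rw [Equiv.apply_symm_apply]
    refine Finset.prod_eq_one fun i _ => ?_
    rw [Pi.zero_apply, h0, map_one]
  have h₀ : IsUnit (H i₀) := by rw [hi₀]; exact isUnit_one
  -- the matrix
  let mJ : Matrix (∀ i, Fin (n i + 1)) (∀ i, Fin (n i + 1)) Γ(G.left, ⊤) := fun x y => ∏ i, m i (x i) (y i)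
  let mJ' : Matrix (∀ i, Fin (n i + 1)) (∀ i, Fin (n i + 1)) Γ(G.left, ⊤) := fun x y => ∏ i, m' i (x i) (y i)
  have hmJ' : mJ' * mJ = 1 := isUnit_prod_matrix hm'
  let M : Matrix (Fin (N + 1)) (Fin (N + 1)) Γ(G.left, ⊤) := (mJ.submatrix e e).transpose
  let M' : Matrix (Fin (N + 1)) (Fin (N + 1)) Γ(G.left, ⊤) := (mJ'.submatrix e e).transpose
  have hM : M * M' = 1 := by
    rw [← Matrix.transpose_mul, Matrix.submatrix_mul_equiv, hmJ', Matrix.submatrix_one_equiv, Matrix.transpose_one]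
  let w := inc W
  let rr : sub W ⟶ P N k := pt (sub W) H i₀ h₀
  let θ := mat G M M' hM
  -- the open where the action is compatible
  let O : (G ⊗ X).left.Opens := a.act.left ⁻¹ᵁ W ⊓ (snd G X).left ⁻¹ᵁ W
  obtain ⟨p, hp⟩ := exists_liftSub (inc O ≫ snd G X) W (fun x => x.2.2)
  obtain ⟨q, hq⟩ := exists_liftSub (inc O ≫ a.act) W (fun x => x.2.1)
  let nn : sub O ⟶ G ⊗ sub W := lift (inc O ≫ fst G X) p
  have hnn : nn ≫ (G ◁ w) = inc O := by
    ext1
    · rw [Category.assoc, whiskerLeft_fst, lift_fst]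
    · rw [Category.assoc, whiskerLeft_snd, lift_snd_assoc, hp]
  have hwo : IsOpenImmersion (G ◁ w).left :=
    MorphismProperty.of_isPullback (P := @IsOpenImmersion)
      (Groth.Agent.Sga3C.SchemImage.isPullback_whiskerLeft_left w G).flip
      (inferInstanceAs (IsOpenImmersion (Scheme.Opens.ι (X := X.left) W)))
  have hno : IsOpenImmersion nn.left := by
    have h1 : IsOpenImmersion (nn.left ≫ (G ◁ w).left) := by
      rw [← Over.comp_left, hnn]
      exact inferInstanceAs (IsOpenImmersion (Scheme.Opens.ι (X := (G ⊗ X).left) O))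
    exact IsOpenImmersion.of_comp nn.left (G ◁ w).left
  have hOn : Nonempty ↥(sub O).left := by
    let x₀ := (lift (toUnit X ≫ (1 : 𝟙_ _ ⟶ G)) (𝟙 X)).left (genericPoint X.left)
    refine ⟨(⟨x₀, ?_, ?_⟩ : O)⟩
    · change a.act.left ((lift (toUnit X ≫ (1 : 𝟙_ _ ⟶ G)) (𝟙 X)).left (genericPoint X.left)) ∈ W
      rw [← Scheme.Hom.comp_apply, ← Over.comp_left, MonObj.comp_one, K395.Act.one_lift]
      exact hηW
    · change (snd G X).left ((lift (toUnit X ≫ (1 : 𝟙_ _ ⟶ G)) (𝟙 X)).left (genericPoint X.left)) ∈ W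
      rw [← Scheme.Hom.comp_apply, ← Over.comp_left, lift_snd]
      exact hηW
  have hq1 : q ≫ w = nn ≫ (G ◁ w) ≫ a.act := by rw [hq, reassoc_of% hnn]
  have hq2 : q ≫ rr = nn ≫ (G ◁ rr) ≫ θ := by
    have h1 : q ≫ inc W = lift (inc O ≫ fst G X) (p ≫ inc W) ≫ a.act := by
      rw [hq, hp]
      congr 1
      ext1
      · rw [lift_fst]
      · rw [lift_snd]
    obtain ⟨F, hF, hF2⟩ := hH (sub O) (inc O ≫ fst G X) p q h1
    have h2 : q.left.appTop.hom ∘ H = F • Matrix.vecMul (p.left.appTop.hom ∘ H)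
        (M.map (inc O ≫ fst G X).left.appTop.hom) := by
      funext j
      rw [Pi.smul_apply, smul_eq_mul, Function.comp_apply]
      refine (hF2 j).trans ?_
      congr 1
      rw [Matrix.vecMul, dotProduct]
      refine Finset.sum_congr rfl fun l _ => ?_
      rw [Matrix.map_apply]
      exact _root_.mul_comm _ _
    have h3 : IsUnit (Matrix.vecMul (p.left.appTop.hom ∘ H) (M.map (inc O ≫ fst G X).left.appTop.hom) i₀) := by
      have h4 := congrFun h2 i₀
      rw [Pi.smul_apply, smul_eq_mul, Function.comp_apply, hi₀, map_one] at h4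
      exact IsUnit.of_mul_eq_one_right _ h4.symm
    have h5 : nn ≫ (G ◁ rr) = lift (inc O ≫ fst G X) (pt (sub O) (p.left.appTop.hom ∘ H) i₀ (h₀.map _)) := by
      rw [← comp_pt]
      ext1
      · rw [Category.assoc, whiskerLeft_fst, lift_fst, lift_fst]
      · rw [Category.assoc, whiskerLeft_snd, lift_snd_assoc, lift_snd]
    rw [reassoc_of% h5, lift_mat M M' hM _ _ i₀ _ i₀ h3, comp_pt]
    exact (pt_eq _ _ _ _ _ _ _ F h2).symm
  -- instances
  have hPs : IsSeparated (P N k).hom := inferInstanceAs (IsSeparated (CohB1.ProjSpace.toSpec N k))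
  have hPl : LocallyOfFiniteType (P N k).hom := inferInstanceAs (LocallyOfFiniteType (CohB1.ProjSpace.toSpec N k))
  have hPq : QuasiCompact (P N k).hom := inferInstanceAs (QuasiCompact (CohB1.ProjSpace.toSpec N k))
  have hwo' : IsOpenImmersion w.left := inferInstanceAs (IsOpenImmersion (Scheme.Opens.ι (X := X.left) W))
  have hWi : IsIntegral (sub W).left := by
    have h1 : Nonempty ↥(sub W).left := hWn
    exact isIntegral_of_isOpenImmersion w.left
  have hWN : IsNoetherian (sub W).left := by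
    have h1 : IsLocallyNoetherian (W : Scheme.{u}) := inferInstance
    have h2 : CompactSpace ↥(W : Scheme.{u}) :=
      isCompact_iff_compactSpace.1 (TopologicalSpace.NoetherianSpace.isCompact _)
    exact ({} : IsNoetherian (W : Scheme.{u}))
  have hWl : LocallyOfFiniteType (sub W).hom :=
    inferInstanceAs (LocallyOfFiniteType (Scheme.Opens.ι (X := X.left) W ≫ X.hom))
  have hWs : IsSeparated (sub W).hom := inferInstanceAs (IsSeparated (Scheme.Opens.ι (X := X.left) W ≫ X.hom))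
  have hWq : QuasiCompact (sub W).hom := inferInstance
  have hlq : QuasiCompact (lift w rr).left := inferInstance
  obtain ⟨a', ha'⟩ := exists_action a w rr θ nn q hq1 hq2
  have sq := isPullback_prX w rr
  have hcl : IsClosedImmersion (imgι (lift w rr) ≫ snd X (P N k)).left := by
    have hl : lift (prX w rr) (imgι (lift w rr) ≫ snd X (P N k)) = imgι (lift w rr) := by
      ext1
      · rw [lift_fst]; rfl
      · rw [lift_snd]
    have hl' : IsClosedImmersion (lift (prX w rr) (imgι (lift w rr) ≫ snd X (P N k))).left := by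
      rw [hl]; infer_instance
    have hpr : ∀ i (x : ∀ i, Fin (n i + 1)) (b : Fin (n i + 1)), HJ (Function.update x i b) =
        (t i).left.appTop.hom (h i b) * HJ (Function.update x i 0) := by
      intro i x b
      exact prod_update (fun i' j => (t i').left.appTop.hom (h i' j)) (fun i' => by rw [h0, map_one]) x i b
    refine isClosedImmersion (prX w rr) _ (toImg (lift w rr)) H i₀ h₀ (by rw [toImg_ι_assoc, lift_snd])
      (fun i => sub (U i)) (fun i => inc (U i))
      (fun i => inferInstanceAs (IsOpenImmersion (Scheme.Opens.ι (X := X.left) (U i)))) (fun i => hU i)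
      (fun x => ?_) t (fun i => by rw [ht, toImg_prX]) (fun i l => ?_)
    · obtain ⟨i, hi⟩ := hcov x
      exact ⟨i, ⟨⟨x, hi⟩, rfl⟩⟩
    · refine ⟨e.symm (Function.update (e l) i 0), h i (e l i), ?_, Fin (n i + 1), h i,
        fun b => e.symm (Function.update (e l) i b), hs i, fun b => ?_⟩
      · change HJ (e l) = _ * HJ (e (e.symm _))
        rw [Equiv.apply_symm_apply, ← hpr, Function.update_eq_self]
      · change HJ (e (e.symm _)) = _ * HJ (e (e.symm _))
        rw [Equiv.apply_symm_apply, Equiv.apply_symm_apply, ← hpr]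
  refine ⟨img (lift w rr), a', prX w rr, N, (imgι (lift w rr) ≫ snd X (P N k)).left, inferInstance, hcl,
    Over.w (imgι (lift w rr) ≫ snd X (P N k)), ha', W, ⟨_, hηW⟩, ?_⟩
  have sq1 := isPullback_morphismRestrict (prX w rr).left W
  have h1 : (prX w rr).left ∣_ W = (sq1.isoIsPullback _ _ sq.flip).hom ≫ 𝟙 _ := (sq1.isoIsPullback_hom_fst _ _ sq.flip).symm
  rw [h1]
  infer_instance

end Main

end K407.EqChow
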