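import Groth.Agent.Pic13.H602.FamDesc
import Groth.Agent.Grpsch.PicGrp
import Mathlib.AlgebraicGeometry.Sites.Fpqc

/-!
# Descent of invertible modules along an fpqc groupoid without units

`s : X ⟶ X₁` a common section of `σ, p : X₁ ⟶ X`, `σ^* L ≅ p^* L`. If the units on the object `X₂` of composable
arrows which are trivial on both degeneracies are trivial, then `L` descends.
-/

set_option autoImplicit false
set_option backward.isDefEq.respectTransparency false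
universe u
open CategoryTheory Limits AlgebraicGeometry TopologicalSpace
open Groth.Agent.Fdesc Groth.Agent.Fdesc.LocGen Groth.Agent.Picfga.LineHom
  Groth.Agent.Picfga.LineDescent Groth.Agent.Picfga.LineFam Groth.Agent.Pic13.H602.Rig
  Groth.Agent.Pic13.H602.FamDesc Groth.Agent.Desc.QD

namespace K407.LineDesc

section unit

variable {Y Y' Y'' : Scheme.{u}} {G : Y' ⟶ Y} {G' : Y'' ⟶ Y'} {L : Y.Modules} {L' : Y'.Modules}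
  {L'' : Y''.Modules}

lemma smulUnit_comp (hL : PicF.IsInvertible L) {w : Γ(Y', ⊤)} (hw : IsUnit w) (F : Fam G L L')
    (K : Fam G' L' L'') :
    (Fam.smulUnit hw F).comp K = Fam.smulUnit (hw.map G'.appTop.hom) (F.comp K) := by
  obtain ⟨V, e, hV, he⟩ := Fam.exists_gens hL
  refine Fam.ext_of_gens hV he fun i ↦ ?_
  rw [Fam.comp_map, Fam.smulUnit_map, Fam.smul, Fam.smulUnit_map, Fam.comp_map, app_ores]
  rfl

lemma exists_unit_sim {G₁ : Y' ⟶ Y} (h : G₁ = G) (hL : PicF.IsInvertible L) (F : Fam G L L')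
    (F' : Fam G₁ L L') : ∃ (w : Γ(Y', ⊤)) (hw : IsUnit w), Sim F' (Fam.smulUnit hw F) := by
  subst h
  obtain ⟨w, hw, h⟩ := Fam.exists_unit hL F F'
  exact ⟨w, hw, Sim.of_eq h⟩

lemma unit_eq_one {G₁ : Y' ⟶ Y} (hL : PicF.IsInvertible L) {F : Fam G L L'}
    {F' : Fam G₁ L L'} {w : Γ(Y', ⊤)} {hw : IsUnit w} (h : Sim F' F)
    (h' : Sim F' (Fam.smulUnit hw F)) : w = 1 := by
  have h1 := (h.symm.trans h').eq
  exact (Fam.eq_of_smulUnit_eq hL F isUnit_one hw ((Fam.smulUnit_one F).trans h1)).symm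

end unit

variable {X X₁ X₂ : Scheme.{u}} {σ p : X₁ ⟶ X} {s : X ⟶ X₁}

/-- Normalization of an isomorphism `σ^* L ≅ p^* L` along the unit section. -/
theorem exists_normalized (hσ : s ≫ σ = 𝟙 X) (hp : s ≫ p = 𝟙 X) {L : X.Modules}
    (hL : PicF.IsInvertible L)
    (h : Nonempty ((Scheme.Modules.pullback σ).obj L ≅ (Scheme.Modules.pullback p).obj L)) :
    ∃ (M : X₁.Modules) (θ₁ : Fam σ L M) (θ₂ : Fam p L M) (N : X.Modules) (κ : Fam s M N),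
      Sim (θ₁.comp κ) (θ₂.comp κ) := by
  obtain ⟨e⟩ := h
  let M : X₁.Modules := (Scheme.Modules.pullback p).obj L
  let θ₂ : Fam p L M := Fam.ofIso (Iso.refl _)
  let θ₁ : Fam σ L M := Fam.ofIso e
  let κ : Fam s M ((Scheme.Modules.pullback s).obj M) := Fam.ofIso (Iso.refl _)
  obtain ⟨w, hw, h1⟩ := exists_unit_sim (hp.trans hσ.symm) hL (θ₁.comp κ) (θ₂.comp κ)
  have h2 : s.appTop (p.appTop w) = w := by
    change (s ≫ p).appTop w = w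
    rw [hp]
    rfl
  refine ⟨M, Fam.smulUnit (hw.map p.appTop.hom) θ₁, θ₂, _, κ, ?_⟩
  rw [smulUnit_comp hL]
  refine Sim.trans (Sim.of_eq ?_) h1.symm
  congr 1

variable {r₁₂ r₂₃ r₁₃ : X₂ ⟶ X₁} {t₁ t₂ : X₁ ⟶ X₂}

/-- The cocycle condition holds if there are no units. -/
theorem exists_cocycle (e1 : r₁₂ ≫ σ = r₁₃ ≫ σ) (e2 : r₁₂ ≫ p = r₂₃ ≫ σ) (e3 : r₂₃ ≫ p = r₁₃ ≫ p)
    (h₁ : t₁ ≫ r₁₂ = σ ≫ s) (h₁' : t₁ ≫ r₂₃ = 𝟙 X₁) (h₁'' : t₁ ≫ r₁₃ = 𝟙 X₁)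
    (h₂ : t₂ ≫ r₂₃ = p ≫ s) (h₂' : t₂ ≫ r₁₂ = 𝟙 X₁) (h₂'' : t₂ ≫ r₁₃ = 𝟙 X₁)
    (hu : ∀ u : Γ(X₂, ⊤), IsUnit u → t₁.appTop u = 1 → t₂.appTop u = 1 → u = 1)
    {L : X.Modules} (hL : PicF.IsInvertible L) {M : X₁.Modules} {N : X.Modules}
    (θ₁ : Fam σ L M) (θ₂ : Fam p L M) (κ : Fam s M N) (hs : Sim (θ₁.comp κ) (θ₂.comp κ)) :
    ∃ (M3 : X₂.Modules) (κ₁₂ : Fam r₁₂ M M3) (κ₂₃ : Fam r₂₃ M M3) (κ₁₃ : Fam r₁₃ M M3),
      Sim (θ₁.comp κ₁₂) (θ₁.comp κ₁₃) ∧ Sim (θ₂.comp κ₁₂) (θ₁.comp κ₂₃) ∧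
      Sim (θ₂.comp κ₂₃) (θ₂.comp κ₁₃) := by
  have hM : PicF.IsInvertible M := θ₁.isInvertible hL
  let M3 : X₂.Modules := (Scheme.Modules.pullback r₂₃).obj M
  let κ₂₃ : Fam r₂₃ M M3 := Fam.ofIso (Iso.refl _)
  have hM3 : PicF.IsInvertible M3 := κ₂₃.isInvertible hM
  obtain ⟨κ₁₂, hκ₁₂⟩ := exists_fill_sim hL θ₂ (θ₁.comp κ₂₃) e2
  obtain ⟨κ₁₃, hκ₁₃⟩ := exists_fill_sim hL θ₂ (θ₂.comp κ₂₃) e3.symm
  obtain ⟨w, hw, h⟩ := exists_unit_sim e1 hL (θ₁.comp κ₁₃) (θ₁.comp κ₁₂)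
  refine ⟨M3, κ₁₂, κ₂₃, κ₁₃, ?_, hκ₁₂, hκ₁₃.symm⟩
  have key : w = 1 := by
    refine hu w hw ?_ ?_
    · let τ : Fam t₁ M3 ((Scheme.Modules.pullback t₁).obj M3) := Fam.ofIso (Iso.refl _)
      obtain ⟨l, hl⟩ := exists_fill_sim hM κ (κ₁₂.comp τ) (G' := σ) h₁.symm
      have a1 : Sim (θ₁.comp (κ₁₂.comp τ)) (θ₁.comp (κ₂₃.comp τ)) :=
        ((hl.comp_right θ₁).symm.trans (hs.comp_left l)).trans
          ((hl.comp_right θ₂).trans (hκ₁₂.comp_left τ))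
      have a2 : Sim (κ₂₃.comp τ) (κ₁₃.comp τ) := by
        refine Sim.cancel hL θ₂ (h₁'.trans h₁''.symm) ?_
        exact hκ₁₃.symm.comp_left τ
      have a3 : Sim ((θ₁.comp κ₁₂).comp τ) ((θ₁.comp κ₁₃).comp τ) := a1.trans (a2.comp_right θ₁)
      have a4 := h.comp_left τ
      rw [smulUnit_comp hL] at a4
      exact unit_eq_one hL a3 a4
    · let τ : Fam t₂ M3 ((Scheme.Modules.pullback t₂).obj M3) := Fam.ofIso (Iso.refl _)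
      obtain ⟨l, hl⟩ := exists_fill_sim hM κ (κ₂₃.comp τ) (G' := p) h₂.symm
      have a1 : Sim (θ₂.comp (κ₁₂.comp τ)) (θ₂.comp (κ₁₃.comp τ)) :=
        (((hκ₁₂.comp_left τ).trans (hl.comp_right θ₁).symm).trans (hs.comp_left l)).trans
          ((hl.comp_right θ₂).trans (hκ₁₃.symm.comp_left τ))
      have a2 : Sim (κ₁₂.comp τ) (κ₁₃.comp τ) := Sim.cancel hL θ₂ (h₂'.trans h₂''.symm) a1
      have a3 : Sim ((θ₁.comp κ₁₂).comp τ) ((θ₁.comp κ₁₃).comp τ) := a2.comp_right θ₁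
      have a4 := h.comp_left τ
      rw [smulUnit_comp hL] at a4
      exact unit_eq_one hL a3 a4
  subst key
  rwa [Fam.smulUnit_one] at h

/-- Descent along an fpqc morphism. -/
theorem exists_descent {Y : Scheme.{u}} (f : X ⟶ Y) [Flat f] [Surjective f] [QuasiCompact f]
    (hsq : IsPullback σ p f f) (h3 : IsPullback r₁₂ r₂₃ p σ)
    (hσ : s ≫ σ = 𝟙 X) (hp : s ≫ p = 𝟙 X)
    (e1 : r₁₂ ≫ σ = r₁₃ ≫ σ) (e3 : r₂₃ ≫ p = r₁₃ ≫ p)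
    (h₁ : t₁ ≫ r₁₂ = σ ≫ s) (h₁' : t₁ ≫ r₂₃ = 𝟙 X₁) (h₁'' : t₁ ≫ r₁₃ = 𝟙 X₁)
    (h₂ : t₂ ≫ r₂₃ = p ≫ s) (h₂' : t₂ ≫ r₁₂ = 𝟙 X₁) (h₂'' : t₂ ≫ r₁₃ = 𝟙 X₁)
    (hu : ∀ u : Γ(X₂, ⊤), IsUnit u → t₁.appTop u = 1 → t₂.appTop u = 1 → u = 1)
    {L : X.Modules} (hL : PicF.IsInvertible L)
    (h : Nonempty ((Scheme.Modules.pullback σ).obj L ≅ (Scheme.Modules.pullback p).obj L)) :
    ∃ (M : Y.Modules) (_ : PicF.IsInvertible M),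
      Nonempty ((Scheme.Modules.pullback f).obj M ≅ L) := by
  obtain ⟨M, θ₁, θ₂, N, κ, hs⟩ := exists_normalized hσ hp hL h
  obtain ⟨M3, κ₁₂, κ₂₃, κ₁₃, c1, c2, c3⟩ := exists_cocycle e1 h3.w e3 h₁ h₁' h₁'' h₂ h₂' h₂'' hu hL
    θ₁ θ₂ κ hs
  let O : Overlap (fun _ : PUnit.{u + 1} ↦ f) (fun _ ↦ L) :=
    { P := fun _ _ ↦ X₁
      q₁ := fun _ _ ↦ σ
      q₂ := fun _ _ ↦ p
      isPb := fun _ _ ↦ hsq
      M := fun _ _ ↦ M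
      θ₁ := fun _ _ ↦ θ₁
      θ₂ := fun _ _ ↦ θ₂
      coc := fun _ _ _ ↦ ⟨X₂, r₁₂, r₂₃, r₁₃, M3, κ₁₂, κ₂₃, κ₁₃, c1, c2, c3, fun Z a b c hab hbc ↦
        ⟨h3.lift (hsq.lift a b hab) (hsq.lift b c hbc) (by simp), by simp, by simp, by simp⟩⟩ }
  obtain ⟨M', hM', θ, -⟩ := O.exists_desc (fun _ ↦ hL) (by
    rw [Presieve.ofArrows_pUnit]
    exact f.singleton_mem_fpqcPrecoverage)
  obtain ⟨ψ, -⟩ := Fam.exists_ofIso hM' (θ PUnit.unit)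
  exact ⟨M', hM', ⟨ψ⟩⟩

end K407.LineDesc
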