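import Groth.Agent.AlgGrp.K407.IdealInv
import Groth.Agent.AlgGrp.K406.UnitsTensor
import Mathlib.RingTheory.HopfAlgebra.Convolution
import Mathlib.LinearAlgebra.TensorProduct.Basis
import Mathlib.LinearAlgebra.Matrix.ToLinearEquiv

/-!
# Invertible ideals of a Hopf algebra with primitive class are torsion

`exists_pow_eq_span`: `A` a Hopf algebra of finite type over an algebraically closed field, a domain, `I` an
invertible ideal of `A` such that `x Δ(I) = y (I ⊗ I)` with `x, y ≠ 0` in `A ⊗ A`. Then some power of `I` is principal.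
-/

set_option autoImplicit false

open TensorProduct K407.IdealInv

namespace K407.TorsAlg

section indep

variable {k V W : Type*} [Field k] [AddCommGroup V] [Module k V] [AddCommGroup W] [Module k W]

/-- Every tensor is a sum of pure tensors with independent components on both sides. -/
theorem exists_indep (t : V ⊗[k] W) :
    ∃ (n : ℕ) (v : Fin n → V) (w : Fin n → W), LinearIndependent k v ∧ LinearIndependent k w ∧
      t = ∑ i, v i ⊗ₜ[k] w i := by
  classical
  let e := Module.Basis.ofVectorSpace k W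
  obtain ⟨c, rfl⟩ := TensorProduct.eq_repr_basis_right e t
  let V' : Submodule k V := Submodule.span k ((c.support.image c : Finset V) : Set V)
  have hfin : Module.Finite k V' := Module.Finite.span_finset k _
  let b := Module.finBasis k V'
  have hc : ∀ j, c j ∈ V' := fun j => by
    by_cases hj : j ∈ c.support
    · exact Submodule.subset_span (by
        rw [Finset.coe_image]
        exact ⟨j, hj, rfl⟩)
    · rw [Finsupp.notMem_support_iff.1 hj]
      exact zero_mem _
  let γ := fun j => b.repr ⟨c j, hc j⟩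
  have hγ : ∀ j, c j = ∑ s, γ j s • (b s : V) := fun j => by
    have h := b.sum_repr ⟨c j, hc j⟩
    have h2 := congrArg (V'.subtype) h
    rw [map_sum] at h2
    simpa [γ] using h2.symm
  refine ⟨_, fun s => (b s : V), fun s => ∑ j ∈ c.support, γ j s • e j,
    b.linearIndependent.map' V'.subtype (Submodule.ker_subtype V'), ?_, ?_⟩
  · rw [Fintype.linearIndependent_iff]
    intro α hα
    have h1 : ∀ j ∈ c.support, ∑ s, α s * γ j s = 0 := by
      have h2 : ∑ j ∈ c.support, (∑ s, α s * γ j s) • e j = 0 := by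
        rw [← hα]
        simp_rw [Finset.smul_sum, Finset.sum_smul, smul_smul]
        rw [Finset.sum_comm]
      have h3 := linearIndependent_iff'.1 e.linearIndependent c.support _ h2
      exact h3
    let φ : V' →ₗ[k] k := b.constr k α
    have h2 : φ = 0 := by
      have h3 : (⊤ : Submodule k V') = Submodule.span k (Subtype.val ⁻¹' ((c.support.image c : Finset V) : Set V)) := by
        symm
        exact Submodule.span_span_coe_preimage
      apply LinearMap.ext_on h3.symm
      rintro ⟨x, hx⟩ hx'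
      rw [Set.mem_preimage, Finset.coe_image] at hx'
      obtain ⟨j, hj, hjx⟩ := hx'
      subst hjx
      have h4 := h1 j hj
      change b.constr k α _ = 0
      rw [Module.Basis.constr_apply_fintype]
      simp only [Module.Basis.equivFun_apply, smul_eq_mul]
      rw [← h4]
      exact Finset.sum_congr rfl fun s _ => mul_comm _ _
    intro s
    have h3 := congrArg (fun ψ : V' →ₗ[k] k => ψ (b s)) h2
    simp only [φ, Module.Basis.constr_basis, LinearMap.zero_apply] at h3
    exact h3
  · rw [Finsupp.sum]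
    calc ∑ j ∈ c.support, c j ⊗ₜ[k] e j = ∑ j ∈ c.support, ∑ s, (γ j s • (b s : V)) ⊗ₜ[k] e j := by
          refine Finset.sum_congr rfl fun j _ => ?_
          conv_lhs => rw [hγ j, TensorProduct.sum_tmul]
      _ = ∑ s, (b s : V) ⊗ₜ[k] ∑ j ∈ c.support, γ j s • e j := by
          rw [Finset.sum_comm]
          refine Finset.sum_congr rfl fun s _ => ?_
          rw [TensorProduct.tmul_sum]
          exact Finset.sum_congr rfl fun j _ => TensorProduct.smul_tmul _ _ _

end indep

section det

variable {k A : Type*} [Field k] [CommRing A] [IsDomain A] [Algebra k A] {I : Ideal A}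

omit [IsDomain A] in
theorem prod_sub_mem {m : Ideal A} {ι : Type*} (s : Finset ι) (x y : ι → A) (hx : ∀ i, x i ∈ I) (hy : ∀ i, y i ∈ I)
    (h : ∀ i, x i - y i ∈ m * I) : ∏ i ∈ s, x i - ∏ i ∈ s, y i ∈ m * I ^ s.card := by
  classical
  induction s using Finset.induction_on with
  | empty => simp
  | insert a s ha ih =>
    rw [Finset.prod_insert ha, Finset.prod_insert ha, Finset.card_insert_of_notMem ha]
    have h1 : x a * ∏ i ∈ s, x i - y a * ∏ i ∈ s, y i =
        (x a - y a) * ∏ i ∈ s, x i + y a * (∏ i ∈ s, x i - ∏ i ∈ s, y i) := by ring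
    rw [h1]
    refine add_mem ?_ ?_
    · rw [pow_succ', ← mul_assoc]
      refine Ideal.mul_mem_mul (h a) ?_
      rw [← Finset.prod_const]
      exact Ideal.prod_mem_prod fun i _ => hx i
    · rw [pow_succ', mul_left_comm]
      exact Ideal.mul_mem_mul (hy a) ih

/-- A criterion for a power of an invertible ideal to be generated by a determinant. -/
theorem pow_eq_span_det (hI : IsInv I) {n : ℕ} (c : Matrix (Fin n) (Fin n) A) (hc : ∀ i j, c i j ∈ I)
    (hk : ∀ m : Ideal A, m.IsMaximal → ∀ a : A, ∃ α : k, a - algebraMap k A α ∈ m)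
    (hne : ∀ m : Ideal A, m.IsMaximal → ∀ β : Fin n → k,
      (∀ i, ∑ j, algebraMap k A (β j) * c i j ∈ m * I) → β = 0) :
    I ^ n = Ideal.span {c.det} := by
  refine (hI.pow n).eq_span ?_ ?_
  · rw [Matrix.det_apply]
    refine sum_mem fun σ _ => ?_
    have h1 : ∏ i, c (σ i) i ∈ I ^ n := by
      have h2 : ∏ _i : Fin n, I = I ^ n := by simp
      rw [← h2]
      exact Ideal.prod_mem_prod fun i _ => hc _ _
    rcases Int.units_eq_one_or (Equiv.Perm.sign σ) with h | h <;> rw [h]
    · rwa [one_smul]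
    · rw [Units.neg_smul, one_smul]
      exact neg_mem h1
  · intro m hm hdet
    obtain ⟨t, ht, htm⟩ := Set.not_subset.1 (hI.not_le_mul hm.ne_top)
    have h1 : ∀ i j, ∃ α : k, c i j - algebraMap k A α * t ∈ m * I := by
      intro i j
      obtain ⟨y, hy, z, hz, hyz⟩ := Submodule.mem_sup.1 (hI.le_sup hm ht htm (hc i j))
      obtain ⟨s, rfl⟩ := Ideal.mem_span_singleton'.1 hy
      obtain ⟨α, hα⟩ := hk m hm s
      refine ⟨α, ?_⟩
      have h2 : c i j - algebraMap k A α * t = (s - algebraMap k A α) * t + z := by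
        rw [← hyz]; ring
      rw [h2]
      exact add_mem (Ideal.mul_mem_mul hα ht) hz
    choose α hα using h1
    let M : Matrix (Fin n) (Fin n) k := Matrix.of α
    have hαI : ∀ i j, algebraMap k A (α i j) * t ∈ I := fun i j => Ideal.mul_mem_left _ _ ht
    have h2 : c.det - algebraMap k A M.det * t ^ n ∈ m * I ^ n := by
      have h3 : algebraMap k A M.det * t ^ n = ∑ σ : Equiv.Perm (Fin n), Equiv.Perm.sign σ •
          ∏ i, (algebraMap k A (α (σ i) i) * t) := by
        rw [Matrix.det_apply, map_sum, Finset.sum_mul]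
        refine Finset.sum_congr rfl fun σ _ => ?_
        rw [Finset.prod_mul_distrib, Finset.prod_const, Finset.card_univ, Fintype.card_fin]
        rcases Int.units_eq_one_or (Equiv.Perm.sign σ) with h | h <;> rw [h]
        · rw [one_smul, one_smul, map_prod]; rfl
        · rw [Units.neg_smul, one_smul, Units.neg_smul, one_smul, map_neg, map_prod, neg_mul]; rfl
      rw [h3, Matrix.det_apply, ← Finset.sum_sub_distrib]
      refine sum_mem fun σ _ => ?_
      rw [← smul_sub]
      have h4 := prod_sub_mem (m := m) (I := I) Finset.univ (fun i => c (σ i) i)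
        (fun i => algebraMap k A (α (σ i) i) * t) (fun i => hc _ _) (fun i => hαI _ _) (fun i => hα _ _)
      rw [Finset.card_univ, Fintype.card_fin] at h4
      rcases Int.units_eq_one_or (Equiv.Perm.sign σ) with h | h <;> rw [h]
      · rwa [one_smul]
      · rw [Units.neg_smul, one_smul]
        exact neg_mem h4
    have h3 : M.det ≠ 0 := by
      intro h0
      obtain ⟨β, hβ0, hβ⟩ := Matrix.exists_mulVec_eq_zero_iff.2 h0
      refine hβ0 (hne m hm β fun i => ?_)
      have h4 : ∑ j, algebraMap k A (β j) * c i j =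
          ∑ j, algebraMap k A (β j) * (c i j - algebraMap k A (α i j) * t) +
            algebraMap k A (∑ j, α i j * β j) * t := by
        rw [map_sum, Finset.sum_mul, ← Finset.sum_add_distrib]
        refine Finset.sum_congr rfl fun j _ => ?_
        rw [map_mul]; ring
      have h5 : ∑ j, α i j * β j = 0 := congrFun hβ i
      rw [h4, h5, map_zero, zero_mul, add_zero]
      exact sum_mem fun j _ => Ideal.mul_mem_left _ _ (hα i j)
    have h4 : algebraMap k A M.det * t ^ n ∈ m * I ^ n := by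
      have := sub_mem hdet h2
      rwa [sub_sub_cancel] at this
    refine hI.pow_notMem hm ht htm n ?_
    have h5 : t ^ n = algebraMap k A M.det⁻¹ * (algebraMap k A M.det * t ^ n) := by
      rw [← mul_assoc, ← map_mul, inv_mul_cancel₀ h3, map_one, one_mul]
    rw [h5]
    exact Ideal.mul_mem_left _ _ h4

end det

section hopf

variable {k A : Type*} [Field k] [CommRing A] [HopfAlgebra k A]

open K406.UnitsTensor WithConv

variable (k A) in
/-- `a ↦ a ⊗ 1` -/
abbrev inl : A →ₐ[k] A ⊗[k] A := Algebra.TensorProduct.includeLeft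

variable (k A) in
/-- `a ↦ 1 ⊗ a` -/
abbrev inr : A →ₐ[k] A ⊗[k] A := Algebra.TensorProduct.includeRight

variable (k A) in
/-- the comultiplication -/
abbrev dl : A →ₐ[k] A ⊗[k] A := Bialgebra.comulAlgHom k A

/-- Right translation by a rational point is injective on functions. -/
theorem trans_injective (g : A →ₐ[k] k) : Function.Injective fun a => evR A g (dl k A a) := by
  let α : WithConv (A →ₐ[k] A) := toConv (AlgHom.id k A)
  let γ : WithConv (A →ₐ[k] A) := toConv ((Algebra.ofId k A).comp g)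
  have h1 : (evR A g).comp (dl k A) = (α * γ).ofConv := by
    have h2 : evR A g = (Algebra.TensorProduct.lmul' k).comp
        (Algebra.TensorProduct.map (AlgHom.id k A) ((Algebra.ofId k A).comp g)) := by
      apply Algebra.TensorProduct.ext
      · ext a
        simp [evR]
      · ext a
        simp [evR, Algebra.ofId_apply, Algebra.algebraMap_eq_smul_one]
    rw [h2]
    rfl
  have h2 : (α * γ⁻¹).ofConv.comp (α * γ).ofConv = AlgHom.id k A := by
    rw [AlgHom.comp_convMul_distrib]
    have h3 : (α * γ⁻¹).ofConv.comp α.ofConv = (α * γ⁻¹).ofConv := AlgHom.comp_id _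
    have h4 : (α * γ⁻¹).ofConv.comp γ.ofConv = γ.ofConv := by
      ext a
      exact AlgHom.commutes (α * γ⁻¹).ofConv (g a)
    rw [h3, h4, toConv_ofConv, toConv_ofConv, inv_mul_cancel_right]
  intro a b hab
  have h3 : (α * γ).ofConv a = (α * γ).ofConv b := by
    rw [← h1]
    exact hab
  have h4 := congrArg (α * γ⁻¹).ofConv h3
  rw [← AlgHom.comp_apply, ← AlgHom.comp_apply, h2] at h4
  exact h4

theorem evR_mem {m : Ideal A} {g : A →ₐ[k] k} (hg : ∀ a ∈ m, g a = 0) {w : A ⊗[k] A}
    (hw : w ∈ m.map (inr k A)) : evR A g w = 0 := by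
  have h1 : m.map (inr k A) ≤ RingHom.ker (evR A g) := by
    rw [Ideal.map_le_iff_le_comap]
    intro a ha
    change evR A g ((1 : A) ⊗ₜ[k] a) = 0
    rw [evR_tmul, hg a ha, zero_smul]
  exact h1 hw

/-- The key injectivity. -/
theorem eq_zero_of_mem [IsDomain (A ⊗[k] A)] {I : Ideal A} {x y : A ⊗[k] A} (hx : x ≠ 0)
    (h : Ideal.span {x} * I.map (dl k A) = Ideal.span {y} * (I.map (inl k A) * I.map (inr k A)))
    {m : Ideal A} {g : A →ₐ[k] k} (hg : ∀ a ∈ m, g a = 0) {v : A} {w : A ⊗[k] A}
    (hvw : y * w = x * dl k A v) (hw : w ∈ m.map (inr k A) * (I.map (inl k A) * I.map (inr k A))) : v = 0 := by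
  have h1 : x * dl k A v ∈ Ideal.span {x} * (m.map (inr k A) * I.map (dl k A)) := by
    rw [← hvw, mul_left_comm, h, mul_left_comm]
    exact Ideal.mul_mem_mul (Ideal.mem_span_singleton_self y) hw
  rw [Ideal.mem_span_singleton_mul] at h1
  obtain ⟨z, hz, hxz⟩ := h1
  have h2 : dl k A v = z := (mul_left_cancel₀ hx hxz).symm
  have h3 : z ∈ m.map (inr k A) := Ideal.mul_le_right hz |> fun _ => Ideal.mul_le_left hz
  apply trans_injective g
  change evR A g (dl k A v) = evR A g (dl k A 0)
  rw [h2, evR_mem hg h3, map_zero, map_zero]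

variable {I : Ideal A}

/-- the inclusion `I ⊗ I → A ⊗ A` -/
noncomputable abbrev ii (I : Ideal A) : I.restrictScalars k ⊗[k] I.restrictScalars k →ₗ[k] A ⊗[k] A :=
  TensorProduct.map (I.restrictScalars k).subtype (I.restrictScalars k).subtype

theorem ii_injective : Function.Injective (ii (k := k) I) :=
  TensorProduct.map_injective_of_flat_flat _ _ Subtype.val_injective Subtype.val_injective

theorem exists_ii_mul (w : A ⊗[k] A) (t : I.restrictScalars k ⊗[k] I.restrictScalars k) :
    ∃ t', ii I t' = w * ii I t := by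
  induction w using TensorProduct.induction_on with
  | zero => exact ⟨0, by simp⟩
  | add w w' h h' =>
    obtain ⟨s, hs⟩ := h
    obtain ⟨s', hs'⟩ := h'
    exact ⟨s + s', by rw [map_add, hs, hs', add_mul]⟩
  | tmul a b =>
    induction t using TensorProduct.induction_on with
    | zero => exact ⟨0, by simp⟩
    | add t t' h h' =>
      obtain ⟨s, hs⟩ := h
      obtain ⟨s', hs'⟩ := h'
      exact ⟨s + s', by rw [map_add, hs, hs', map_add, mul_add]⟩
    | tmul v w =>
      refine ⟨(⟨a * v, I.mul_mem_left a v.2⟩ : I.restrictScalars k) ⊗ₜ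
        (⟨b * w, I.mul_mem_left b w.2⟩ : I.restrictScalars k), ?_⟩
      simp [Algebra.TensorProduct.tmul_mul_tmul]

theorem exists_ii {w : A ⊗[k] A} (hw : w ∈ I.map (inl k A) * I.map (inr k A)) : ∃ t, ii I t = w := by
  rw [Ideal.map, Ideal.map, Ideal.span_mul_span', ← Ideal.submodule_span_eq] at hw
  induction hw using Submodule.span_induction with
  | mem w h =>
    obtain ⟨-, ⟨a, ha, rfl⟩, -, ⟨b, hb, rfl⟩, rfl⟩ := h
    refine ⟨(⟨a, ha⟩ : I.restrictScalars k) ⊗ₜ (⟨b, hb⟩ : I.restrictScalars k), ?_⟩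
    simp [Algebra.TensorProduct.tmul_mul_tmul]
  | zero => exact ⟨0, by simp⟩
  | add w w' _ _ h h' =>
    obtain ⟨s, hs⟩ := h
    obtain ⟨s', hs'⟩ := h'
    exact ⟨s + s', by rw [map_add, hs, hs']⟩
  | smul b w _ h =>
    obtain ⟨s, rfl⟩ := h
    exact exists_ii_mul b s

theorem ii_mem (t : I.restrictScalars k ⊗[k] I.restrictScalars k) :
    ii I t ∈ I.map (inl k A) * I.map (inr k A) := by
  induction t using TensorProduct.induction_on with
  | zero => simp
  | add t t' h h' => rw [map_add]; exact add_mem h h'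
  | tmul v w =>
    have h1 : ii I (v ⊗ₜ w) = inl k A v * inr k A w := by
      simp [Algebra.TensorProduct.tmul_mul_tmul]
    rw [h1]
    exact Ideal.mul_mem_mul (Ideal.mem_map_of_mem _ v.2) (Ideal.mem_map_of_mem _ w.2)

/-- The twisted comultiplication `I → I ⊗ I`. -/
theorem exists_delta [IsDomain (A ⊗[k] A)] {x y : A ⊗[k] A} (hy : y ≠ 0)
    (h : Ideal.span {x} * I.map (dl k A) = Ideal.span {y} * (I.map (inl k A) * I.map (inr k A))) :
    ∃ δ : I.restrictScalars k →ₗ[k] I.restrictScalars k ⊗[k] I.restrictScalars k,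
      ∀ v : I.restrictScalars k, y * ii I (δ v) = x * dl k A v := by
  have h1 : ∀ v : I.restrictScalars k, ∃ t, y * ii I t = x * dl k A v := by
    intro v
    have h2 : x * dl k A v ∈ Ideal.span {x} * I.map (dl k A) :=
      Ideal.mul_mem_mul (Ideal.mem_span_singleton_self x) (Ideal.mem_map_of_mem _ v.2)
    rw [h, Ideal.mem_span_singleton_mul] at h2
    obtain ⟨z, hz, hyz⟩ := h2
    obtain ⟨t, rfl⟩ := exists_ii hz
    exact ⟨t, hyz⟩
  choose δ hδ using h1
  have hinj : ∀ t t', y * ii (k := k) I t = y * ii I t' → t = t' := fun t t' ht =>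
    ii_injective (mul_left_cancel₀ hy ht)
  refine ⟨{ toFun := δ, map_add' := fun v w => hinj _ _ ?_, map_smul' := fun c v => hinj _ _ ?_ }, hδ⟩
  · rw [hδ, map_add, mul_add, hδ, hδ, Submodule.coe_add, map_add, mul_add]
  · rw [hδ, RingHom.id_apply, map_smul, mul_smul_comm, hδ, Submodule.coe_smul, map_smul, mul_smul_comm]

/-! ### Coassociativity up to a unit -/

variable (k A) in
/-- `a ⊗ b ↦ a ⊗ b ⊗ 1` -/
noncomputable abbrev j12 : A ⊗[k] A →ₐ[k] A ⊗[k] (A ⊗[k] A) :=
  (Algebra.TensorProduct.assoc k k k A A A).toAlgHom.comp Algebra.TensorProduct.includeLeft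

variable (k A) in
/-- `a ⊗ b ↦ 1 ⊗ a ⊗ b` -/
noncomputable abbrev j23 : A ⊗[k] A →ₐ[k] A ⊗[k] (A ⊗[k] A) := Algebra.TensorProduct.includeRight

variable (k A) in
/-- `a ↦ a ⊗ 1 ⊗ 1` -/
noncomputable abbrev k1 : A →ₐ[k] A ⊗[k] (A ⊗[k] A) := Algebra.TensorProduct.includeLeft

variable (k A) in
/-- `Δ ⊗ 1` -/
noncomputable abbrev d1 : A ⊗[k] A →ₐ[k] A ⊗[k] (A ⊗[k] A) :=
  (Algebra.TensorProduct.assoc k k k A A A).toAlgHom.comp
    (Algebra.TensorProduct.map (dl k A) (AlgHom.id k A))

variable (k A) in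
/-- `1 ⊗ Δ` -/
noncomputable abbrev d2 : A ⊗[k] A →ₐ[k] A ⊗[k] (A ⊗[k] A) := Algebra.TensorProduct.map (AlgHom.id k A) (dl k A)

theorem d1_dl (a : A) : d1 k A (dl k A a) = d2 k A (dl k A a) :=
  Coalgebra.coassoc_apply (R := k) a

theorem d1_inl : (d1 k A).comp (inl k A) = (j12 k A).comp (dl k A) := by
  ext a; simp

theorem d1_inr : (d1 k A).comp (inr k A) = (j23 k A).comp (inr k A) := by
  ext a; simp [Algebra.TensorProduct.one_def]

theorem d2_inl : (d2 k A).comp (inl k A) = k1 k A := by
  ext a; simp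

theorem d2_inr : (d2 k A).comp (inr k A) = (j23 k A).comp (dl k A) := by
  ext a; simp

theorem j12_inl : (j12 k A).comp (inl k A) = k1 k A := by
  ext a; simp [Algebra.TensorProduct.one_def]

theorem j12_inr : (j12 k A).comp (inr k A) = (j23 k A).comp (inl k A) := by
  ext a; simp

theorem assoc_tmul (b : A ⊗[k] A) (a : A) :
    Algebra.TensorProduct.assoc k k k A A A (b ⊗ₜ a) = j12 k A b * j23 k A (inr k A a) := by
  induction b using TensorProduct.induction_on with
  | zero => simp
  | add b b' h h' => rw [TensorProduct.add_tmul, map_add, h, h', map_add, add_mul]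
  | tmul b c => simp [Algebra.TensorProduct.tmul_mul_tmul]

variable (δ : I.restrictScalars k →ₗ[k] I.restrictScalars k ⊗[k] I.restrictScalars k)

/-- `δ ⊗ 1` -/
noncomputable def D1 : I.restrictScalars k ⊗[k] I.restrictScalars k →ₗ[k] A ⊗[k] (A ⊗[k] A) :=
  (Algebra.TensorProduct.assoc k k k A A A).toLinearMap ∘ₗ TensorProduct.map (ii I ∘ₗ δ) (I.restrictScalars k).subtype

/-- `1 ⊗ δ` -/
noncomputable def D2 : I.restrictScalars k ⊗[k] I.restrictScalars k →ₗ[k] A ⊗[k] (A ⊗[k] A) :=
  TensorProduct.map (I.restrictScalars k).subtype (ii I ∘ₗ δ)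

theorem D1_tmul (v w : I.restrictScalars k) :
    D1 δ (v ⊗ₜ w) = j12 k A (ii I (δ v)) * j23 k A (inr k A w) :=
  assoc_tmul (ii I (δ v)) (w : A)

theorem D2_tmul (v w : I.restrictScalars k) :
    D2 δ (v ⊗ₜ w) = k1 k A v * j23 k A (ii I (δ w)) := by
  simp [D2, Algebra.TensorProduct.tmul_mul_tmul]

section

variable {δ} {x y : A ⊗[k] A} (hδ : ∀ v : I.restrictScalars k, y * ii I (δ v) = x * dl k A v)

include hδ

theorem j12_mul_D1 (t : I.restrictScalars k ⊗[k] I.restrictScalars k) :
    j12 k A y * D1 δ t = j12 k A x * d1 k A (ii I t) := by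
  induction t using TensorProduct.induction_on with
  | zero => simp
  | add t t' h h' => rw [map_add, map_add, map_add, mul_add, mul_add, h, h']
  | tmul v w =>
    have h1 : ii I (v ⊗ₜ w) = inl k A v * inr k A w := by
      simp [Algebra.TensorProduct.tmul_mul_tmul]
    rw [D1_tmul, ← mul_assoc, ← map_mul, hδ, h1, map_mul, map_mul, mul_assoc]
    congr 1
    congr 1
    exact (congrArg (fun f => f (w : A)) (congrArg DFunLike.coe (d1_inr (k := k) (A := A)))).symm

theorem j23_mul_D2 (t : I.restrictScalars k ⊗[k] I.restrictScalars k) :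
    j23 k A y * D2 δ t = j23 k A x * d2 k A (ii I t) := by
  induction t using TensorProduct.induction_on with
  | zero => simp
  | add t t' h h' => rw [map_add, map_add, map_add, mul_add, mul_add, h, h']
  | tmul v w =>
    have h1 : ii I (v ⊗ₜ w) = inl k A v * inr k A w := by
      simp [Algebra.TensorProduct.tmul_mul_tmul]
    rw [D2_tmul, mul_left_comm, ← map_mul, hδ, h1, map_mul, map_mul, mul_left_comm]
    congr 1
    congr 1
    exact (congrArg (fun f => f (v : A)) (congrArg DFunLike.coe (d2_inl (k := k) (A := A)))).symm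

theorem D1_delta (v : I.restrictScalars k) :
    (j12 k A y * d1 k A y) * D1 δ (δ v) = (j12 k A x * d1 k A x) * d2 k A (dl k A v) := by
  rw [mul_right_comm, j12_mul_D1 hδ, mul_assoc, mul_comm (d1 k A (ii I (δ v))), ← map_mul, hδ, map_mul, d1_dl,
    mul_assoc]

theorem D2_delta (v : I.restrictScalars k) :
    (j23 k A y * d2 k A y) * D2 δ (δ v) = (j23 k A x * d2 k A x) * d2 k A (dl k A v) := by
  rw [mul_right_comm, j23_mul_D2 hδ, mul_assoc, mul_comm (d2 k A (ii I (δ v))), ← map_mul, hδ, map_mul,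
    mul_assoc]

end

section

variable {x y : A ⊗[k] A}
  (h : Ideal.span {x} * I.map (dl k A) = Ideal.span {y} * (I.map (inl k A) * I.map (inr k A)))

include h

theorem ideal1 : Ideal.span {j12 k A x * d1 k A x} * I.map ((d2 k A).comp (dl k A)) =
    Ideal.span {j12 k A y * d1 k A y} * (I.map (k1 k A) * (I.map ((j23 k A).comp (inl k A)) *
      I.map ((j23 k A).comp (inr k A)))) := by
  have h1 := congrArg (Ideal.map (d1 k A)) h
  have h2 := congrArg (Ideal.map (j12 k A)) h
  rw [Ideal.map_mul, Ideal.map_mul, Ideal.map_mul, Ideal.map_span, Ideal.map_span, Set.image_singleton,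
    Set.image_singleton, Ideal.map_mapₐ, Ideal.map_mapₐ, Ideal.map_mapₐ] at h1 h2
  have h3 : (d1 k A).comp (dl k A) = (d2 k A).comp (dl k A) := AlgHom.ext d1_dl
  rw [h3, d1_inl, d1_inr] at h1
  rw [j12_inl, j12_inr] at h2
  rw [← Ideal.span_singleton_mul_span_singleton, mul_assoc, h1, mul_left_comm, ← mul_assoc (Ideal.span {j12 k A x}),
    h2, ← Ideal.span_singleton_mul_span_singleton]
  ring

theorem ideal2 : Ideal.span {j23 k A x * d2 k A x} * I.map ((d2 k A).comp (dl k A)) =
    Ideal.span {j23 k A y * d2 k A y} * (I.map (k1 k A) * (I.map ((j23 k A).comp (inl k A)) *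
      I.map ((j23 k A).comp (inr k A)))) := by
  have h1 := congrArg (Ideal.map (d2 k A)) h
  have h2 := congrArg (Ideal.map (j23 k A)) h
  rw [Ideal.map_mul, Ideal.map_mul, Ideal.map_mul, Ideal.map_span, Ideal.map_span, Set.image_singleton,
    Set.image_singleton, Ideal.map_mapₐ, Ideal.map_mapₐ, Ideal.map_mapₐ] at h1 h2
  rw [d2_inl, d2_inr] at h1
  rw [← Ideal.span_singleton_mul_span_singleton, mul_assoc, h1, ← Ideal.span_singleton_mul_span_singleton]
  calc _ = Ideal.span {d2 k A y} * (I.map (k1 k A) * (Ideal.span {j23 k A x} * I.map ((j23 k A).comp (dl k A)))) := by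
        ring
    _ = _ := by rw [h2]; ring

end

theorem comul_injective : Function.Injective (dl k A) := by
  intro a b hab
  have h1 := congrArg (evR A (Bialgebra.counitAlgHom k A)) hab
  exact trans_injective (Bialgebra.counitAlgHom k A) h1

theorem j23_injective [Nontrivial A] : Function.Injective (j23 k A) := by
  apply Algebra.TensorProduct.includeRight_injective
  exact (algebraMap k A).injective

theorem inl_injective [Nontrivial A] : Function.Injective (inl k A) :=
  Algebra.TensorProduct.includeLeft_injective (R := k) (S := k) (A := A) (B := A) (algebraMap k A).injective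

theorem inr_injective [Nontrivial A] : Function.Injective (inr k A) :=
  Algebra.TensorProduct.includeRight_injective (R := k) (A := A) (B := A) (algebraMap k A).injective

theorem j12_injective [Nontrivial A] : Function.Injective (j12 k A) :=
  (Algebra.TensorProduct.assoc k k k A A A).injective.comp
    (Algebra.TensorProduct.includeLeft_injective (R := k) (S := k) (A := A ⊗[k] A) (B := A)
      (algebraMap k A).injective)

theorem k1_injective [Nontrivial A] : Function.Injective (k1 k A) := by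
  rw [← j12_inl]
  exact j12_injective.comp inl_injective

theorem d1_injective : Function.Injective (d1 k A) := by
  refine (Algebra.TensorProduct.assoc k k k A A A).injective.comp ?_
  exact TensorProduct.map_injective_of_flat_flat (dl k A).toLinearMap (AlgHom.id k A).toLinearMap comul_injective
    Function.injective_id

theorem d2_injective : Function.Injective (d2 k A) :=
  TensorProduct.map_injective_of_flat_flat (AlgHom.id k A).toLinearMap (dl k A).toLinearMap
    Function.injective_id comul_injective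

/-- Units of `A ⊗ A ⊗ A`. -/
theorem exists_unit_tmul [IsAlgClosed k] [IsDomain A] (f : A ⊗[k] (A ⊗[k] A)) (hf : IsUnit f) :
    ∃ (a : A) (b : A ⊗[k] A), IsUnit a ∧ IsUnit b ∧ f = a ⊗ₜ b := by
  have hdom : IsDomain (A ⊗[k] A) := Groth.Agent.Fdesc.TensorDomain.isDomain_tensorProduct
  let x₀ : A →ₐ[k] k := Bialgebra.counitAlgHom k A
  let y₀ : A ⊗[k] A →ₐ[k] k := x₀.comp (evR A x₀)
  have h := unit_eq_tmul x₀ y₀ f hf
  have hpu : IsUnit (evR A y₀ f) := hf.map _
  generalize evR A y₀ f = p at h hpu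
  have hc : x₀ p ≠ 0 := (hpu.map x₀).ne_zero
  have hq : IsUnit (((Algebra.TensorProduct.lid k (A ⊗[k] A)).toAlgHom.comp
      (Algebra.TensorProduct.map x₀ (AlgHom.id k (A ⊗[k] A)))) f) := hf.map _
  generalize ((Algebra.TensorProduct.lid k (A ⊗[k] A)).toAlgHom.comp
      (Algebra.TensorProduct.map x₀ (AlgHom.id k (A ⊗[k] A)))) f = q at h hq
  refine ⟨(x₀ p)⁻¹ • p, q, ?_, hq, ?_⟩
  · rw [Algebra.smul_def]
    exact ((IsUnit.mk0 _ (inv_ne_zero hc)).map (algebraMap k A)).mul hpu
  · rw [← TensorProduct.smul_tmul', ← h, smul_smul, inv_mul_cancel₀ hc, one_smul]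

/-- The comparison of two maps by a unit. -/
theorem exists_unit_of_ideals {C : Type*} [CommRing C] [IsDomain C] {T I3 : Ideal C} {P1 Q1 P2 Q2 : C}
    (hI3 : IsInv I3) (e1 : Ideal.span {Q1} * T = Ideal.span {P1} * I3)
    (e2 : Ideal.span {Q2} * T = Ideal.span {P2} * I3) (hP1 : P1 ≠ 0) (hQ2 : Q2 ≠ 0) :
    ∃ u : Cˣ, ∀ z w t, P1 * z = Q1 * t → P2 * w = Q2 * t → z = u * w := by
  have e5 : Ideal.span {Q2 * P1} = Ideal.span {Q1 * P2} := by
    apply hI3.cancel
    rw [mul_comm I3, mul_comm I3, ← Ideal.span_singleton_mul_span_singleton, mul_assoc, ← e1,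
      ← Ideal.span_singleton_mul_span_singleton, mul_assoc, ← e2, mul_left_comm]
  obtain ⟨u, hu⟩ := Ideal.span_singleton_eq_span_singleton.1 e5
  refine ⟨u, fun z w t hz hw => ?_⟩
  apply mul_left_cancel₀ (mul_ne_zero hQ2 hP1)
  rw [mul_assoc, hz, ← mul_assoc (Q2 * P1), hu, mul_assoc, hw]
  ring

theorem isInv3 [IsDomain A] [IsDomain (A ⊗[k] (A ⊗[k] A))] (hI : IsInv I) :
    IsInv (I.map (k1 k A) * (I.map ((j23 k A).comp (inl k A)) * I.map ((j23 k A).comp (inr k A)))) :=
  (hI.map (φ := k1 k A) k1_injective).mul ((hI.map (φ := (j23 k A).comp (inl k A)) (j23_injective.comp inl_injective)).mul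
    (hI.map (φ := (j23 k A).comp (inr k A)) (j23_injective.comp inr_injective)))

/-- Coassociativity up to a unit. -/
theorem exists_unit [IsAlgClosed k] [IsDomain A] (hI : IsInv I)
    {δ : I.restrictScalars k →ₗ[k] I.restrictScalars k ⊗[k] I.restrictScalars k}
    {x y : A ⊗[k] A} (hx : x ≠ 0) (hy : y ≠ 0)
    (h : Ideal.span {x} * I.map (dl k A) = Ideal.span {y} * (I.map (inl k A) * I.map (inr k A)))
    (hδ : ∀ v : I.restrictScalars k, y * ii I (δ v) = x * dl k A v) :
    ∃ (a : A) (b : A ⊗[k] A), IsUnit a ∧ IsUnit b ∧ ∀ v, D1 δ (δ v) = (a ⊗ₜ b) * D2 δ (δ v) := by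
  have hdom : IsDomain (A ⊗[k] A) := Groth.Agent.Fdesc.TensorDomain.isDomain_tensorProduct
  have hdom3 : IsDomain (A ⊗[k] (A ⊗[k] A)) := Groth.Agent.Fdesc.TensorDomain.isDomain_tensorProduct
  have hP1 : j12 k A y * d1 k A y ≠ 0 :=
    mul_ne_zero ((map_ne_zero_iff _ j12_injective).2 hy) ((map_ne_zero_iff _ d1_injective).2 hy)
  have hQ2 : j23 k A x * d2 k A x ≠ 0 :=
    mul_ne_zero ((map_ne_zero_iff _ j23_injective).2 hx) ((map_ne_zero_iff _ d2_injective).2 hx)
  obtain ⟨u, hu⟩ := exists_unit_of_ideals (isInv3 hI) (ideal1 h) (ideal2 h) hP1 hQ2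
  obtain ⟨a, b, ha, hb, hab⟩ := exists_unit_tmul (u : A ⊗[k] (A ⊗[k] A)) u.isUnit
  refine ⟨a, b, ha, hb, fun v => ?_⟩
  rw [← hab]
  exact hu _ _ _ (D1_delta hδ v) (D2_delta hδ v)

/-! ### Slices -/

/-- `1 ⊗ l : A ⊗ A → A` -/
noncomputable def sl (l : A →ₗ[k] k) : A ⊗[k] A →ₗ[k] A :=
  (TensorProduct.rid k A).toLinearMap ∘ₗ TensorProduct.map LinearMap.id l

omit [HopfAlgebra k A] in
theorem sl_tmul [Algebra k A] (l : A →ₗ[k] k) (a b : A) :
    ((TensorProduct.rid k A).toLinearMap ∘ₗ TensorProduct.map LinearMap.id l) (a ⊗ₜ b) = l b • a := by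
  simp

/-- `1 ⊗ 1 ⊗ l` -/
noncomputable def sl3 (l : A →ₗ[k] k) : A ⊗[k] (A ⊗[k] A) →ₗ[k] A ⊗[k] A :=
  TensorProduct.map LinearMap.id (sl l)

theorem sl3_assoc (l : A →ₗ[k] k) (b : A ⊗[k] A) (a : A) :
    sl3 l (Algebra.TensorProduct.assoc k k k A A A (b ⊗ₜ a)) = l a • b := by
  induction b using TensorProduct.induction_on with
  | zero => simp
  | add b b' h h' => rw [TensorProduct.add_tmul, map_add, map_add, h, h', smul_add]
  | tmul b c =>
    rw [Algebra.TensorProduct.assoc_tmul, sl3, TensorProduct.map_tmul, sl, sl_tmul, LinearMap.id_apply,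
      TensorProduct.tmul_smul]

theorem sl3_D1 (l : A →ₗ[k] k) (δ : I.restrictScalars k →ₗ[k] I.restrictScalars k ⊗[k] I.restrictScalars k)
    (v w : I.restrictScalars k) : sl3 l (D1 δ (v ⊗ₜ w)) = l w • ii I (δ v) :=
  sl3_assoc l _ _

theorem sl3_D2 (l : A →ₗ[k] k) (δ : I.restrictScalars k →ₗ[k] I.restrictScalars k ⊗[k] I.restrictScalars k)
    (a : A) (b : A ⊗[k] A) (v w : I.restrictScalars k) :
    sl3 l ((a ⊗ₜ b) * D2 δ (v ⊗ₜ w)) = (a * v) ⊗ₜ sl l (b * ii I (δ w)) := by
  have h1 : D2 δ (v ⊗ₜ w) = (v : A) ⊗ₜ ii I (δ w) := rfl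
  rw [h1, Algebra.TensorProduct.tmul_mul_tmul, sl3, TensorProduct.map_tmul]
  rfl

theorem sl_mem (l : A →ₗ[k] k) {w : A ⊗[k] A} (hw : w ∈ I.map (inl k A) * I.map (inr k A)) : sl l w ∈ I := by
  obtain ⟨t, rfl⟩ := exists_ii hw
  clear hw
  induction t using TensorProduct.induction_on with
  | zero => simp
  | add t t' h h' => rw [map_add, map_add]; exact add_mem h h'
  | tmul v w =>
    have h1 : sl l (ii I (v ⊗ₜ w)) = l (w : A) • (v : A) := sl_tmul l _ _
    rw [h1]
    exact (I.restrictScalars k).smul_mem _ v.2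

theorem exists_dual {V : Type*} [AddCommGroup V] [Module k V] {n : ℕ} {w : Fin n → V}
    (hw : LinearIndependent k w) (s : Fin n) : ∃ l : V →ₗ[k] k, ∀ t, l (w t) = if t = s then 1 else 0 := by
  obtain ⟨l, hl⟩ := ((Finsupp.lapply s).comp hw.repr).exists_extend
  refine ⟨l, fun t => ?_⟩
  have h1 := congrArg (fun f => f ⟨w t, Submodule.subset_span ⟨t, rfl⟩⟩) hl
  simp only [LinearMap.comp_apply, Submodule.subtype_apply] at h1
  rw [h1, hw.repr_eq_single t _ rfl, Finsupp.lapply_apply, Finsupp.single_apply]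

/-- **Invertible ideals with primitive class in a Hopf algebra are torsion.** -/
theorem exists_pow_eq_span [IsAlgClosed k] [IsDomain A] [Algebra.FiniteType k A] (hI : IsInv I)
    {x y : A ⊗[k] A} (hx : x ≠ 0) (hy : y ≠ 0)
    (h : Ideal.span {x} * I.map (dl k A) = Ideal.span {y} * (I.map (inl k A) * I.map (inr k A))) :
    ∃ (n : ℕ) (d : A), n ≠ 0 ∧ I ^ n = Ideal.span {d} := by
  have hdom : IsDomain (A ⊗[k] A) := Groth.Agent.Fdesc.TensorDomain.isDomain_tensorProduct
  obtain ⟨δ, hδ⟩ := exists_delta hy h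
  obtain ⟨a, b, ha, hb, hab⟩ := exists_unit hI hx hy h hδ
  obtain ⟨v₀, hv₀, hv₀0⟩ := Submodule.exists_mem_ne_zero_of_ne_bot hI.ne_bot
  let v : I.restrictScalars k := ⟨v₀, hv₀⟩
  have ht : δ v ≠ 0 := by
    intro h0
    have h1 := hδ v
    rw [h0, map_zero, mul_zero] at h1
    have h2 : dl k A v₀ = 0 := (mul_eq_zero.1 h1.symm).resolve_left hx
    exact hv₀0 ((map_eq_zero_iff _ comul_injective).1 h2)
  obtain ⟨n, p, q, hp, hq, hpq⟩ := exists_indep (δ v)
  have hn : n ≠ 0 := by
    rintro rfl
    exact ht (by rw [hpq]; simp)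
  have hq' : LinearIndependent k (fun s => (q s : A)) :=
    hq.map' (I.restrictScalars k).subtype (Submodule.ker_subtype _)
  choose l hl using exists_dual hq'
  let c : Matrix (Fin n) (Fin n) A := Matrix.of fun t s => sl (l s) (b * ii I (δ (q t)))
  have hc : ∀ t s, c t s ∈ I := fun t s => sl_mem _ (Ideal.mul_mem_left _ _ (ii_mem _))
  have key : ∀ s, ii I (δ (p s)) = ∑ t, (a * (p t : A)) ⊗ₜ[k] c t s := by
    intro s
    have h1 := congrArg (sl3 (l s)) (hab v)
    rw [hpq, map_sum, map_sum, map_sum, Finset.mul_sum, map_sum] at h1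
    simp only [sl3_D1, sl3_D2, hl] at h1
    have h2 : ii I (δ (p s)) = ∑ t, (a * (p t : A)) ⊗ₜ[k] sl (l s) (b * ii I (δ (q t))) := by
      simpa using h1
    exact h2
  refine ⟨n, c.det, hn, pow_eq_span_det (k := k) hI c hc ?_ ?_⟩
  · intro m hm r
    obtain ⟨φ, hφ⟩ := Groth.Agent.Fdesc.TensorDomain.exists_algHom_of_isMaximal (k := k) m
    refine ⟨φ r, ?_⟩
    rw [← hφ, RingHom.mem_ker, map_sub]
    exact sub_eq_zero.2 (AlgHom.commutes φ (φ r)).symm
  · intro m hm β hβ
    obtain ⟨φ, hφ⟩ := Groth.Agent.Fdesc.TensorDomain.exists_algHom_of_isMaximal (k := k) m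
    have hφ' : ∀ r ∈ m, φ r = 0 := fun r hr => by
      rw [← hφ] at hr
      exact hr
    have h1 : ii I (δ (∑ s, β s • p s)) = ∑ t, (a * (p t : A)) ⊗ₜ[k] ∑ s, algebraMap k A (β s) * c t s := by
      rw [map_sum, map_sum]
      simp_rw [map_smul, key, Finset.smul_sum]
      rw [Finset.sum_comm]
      refine Finset.sum_congr rfl fun t _ => ?_
      rw [TensorProduct.tmul_sum]
      refine Finset.sum_congr rfl fun s _ => ?_
      rw [← TensorProduct.tmul_smul, Algebra.smul_def]
    have h2 : ii I (δ (∑ s, β s • p s)) ∈ m.map (inr k A) * (I.map (inl k A) * I.map (inr k A)) := by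
      rw [h1]
      refine sum_mem fun t _ => ?_
      have h3 : ∀ (u w : A), u ∈ I → w ∈ m * I →
          u ⊗ₜ[k] w ∈ m.map (inr k A) * (I.map (inl k A) * I.map (inr k A)) := by
        intro u w hu hw
        have h4 : u ⊗ₜ[k] w = inl k A u * inr k A w := by simp [Algebra.TensorProduct.tmul_mul_tmul]
        rw [h4, mul_left_comm, ← Ideal.map_mul]
        exact Ideal.mul_mem_mul (Ideal.mem_map_of_mem _ hu) (Ideal.mem_map_of_mem _ hw)
      exact h3 _ _ (I.mul_mem_left _ (p t).2) (hβ t)
    have h3 := eq_zero_of_mem hx h hφ' (hδ _) h2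
    have h4 : ∑ s, β s • p s = 0 := Subtype.ext h3
    funext s
    exact Fintype.linearIndependent_iff.1 hp β h4 s

end hopf

end K407.TorsAlg
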