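import Groth.Agent.AlgGrp.K407.AffPic
import Groth.Agent.AlgGrp.K407.TorsAlg
import Groth.Agent.AlgGrp.K407.ActPic
import Groth.Agent.Books.AffBridge2

/-!
# The Picard group of a connected linear group is torsion
-/

set_option autoImplicit false
universe u
open CategoryTheory Limits MonoidalCategory CartesianMonoidalCategory MonObj GrpObj AlgebraicGeometry
open Groth.Agent.Grpsch.PicGrp Groth.Agent.Sga7.H591.Dcl Groth.Agent.Divis.EffCartier Groth.Agent.Books.AffBridge
open scoped TensorProduct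

namespace K407.PicTors

section

variable {k : Type u} [Field k] [IsAlgClosed k]

theorem pull_mul_eq (G : Over (Spec (CommRingCat.of k))) [GrpObj G] [IsAffine G.left]
    [Smooth G.hom] [ConnectedSpace ↥G.left] (c : Pic G.left) :
    pull μ[G].left c = pull (fst G G).left c * pull (snd G G).left c := by
  have hint : IsIntegral G.left := K407.Chart.isIntegral_of_connected G
  obtain ⟨a, b, h⟩ := ActPic.exists_mul G G
    (Groth.Agent.Sga4B.SmoothNormal.isNormalScheme_of_smooth G.hom) (pull μ[G].left c)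
  have h1 := congrArg (pull (lift (toUnit G ≫ (1 : 𝟙_ _ ⟶ G)) (𝟙 G)).left) h
  have h2 := congrArg (pull (lift (𝟙 G) (toUnit G ≫ (1 : 𝟙_ _ ⟶ G))).left) h
  rw [PicProd.restrict_snd, ← pull_comp, ← Over.comp_left] at h1
  rw [PicProd.restrict_fst, ← pull_comp, ← Over.comp_left] at h2
  have h3 : lift (toUnit G ≫ (1 : 𝟙_ _ ⟶ G)) (𝟙 G) ≫ μ[G] = 𝟙 G := by
    rw [← Hom.mul_def, MonObj.comp_one, _root_.one_mul]
  have h4 : lift (𝟙 G) (toUnit G ≫ (1 : 𝟙_ _ ⟶ G)) ≫ μ[G] = 𝟙 G := by
    rw [← Hom.mul_def, MonObj.comp_one, _root_.mul_one]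
  rw [h3, Over.id_left, pull_id] at h1
  rw [h4, Over.id_left, pull_id] at h2
  rw [h, ← h1, ← h2]

theorem pull_mul (G : Over (Spec (CommRingCat.of k))) [GrpObj G] [IsAffine G.left]
    [Smooth G.hom] [ConnectedSpace ↥G.left] (c : Pic G.left) {T : Over (Spec (CommRingCat.of k))}
    (x y : T ⟶ G) : pull (x * y).left c = pull x.left c * pull y.left c := by
  rw [Hom.mul_def, Over.comp_left, pull_comp, pull_mul_eq, map_mul, ← pull_comp, ← pull_comp, ← Over.comp_left,
    ← Over.comp_left, lift_fst, lift_snd]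

end

section

variable {k A : Type u} [Field k] [CommRing A] [HopfAlgebra k A]

theorem ofConv_mul : ((WithConv.toConv (TorsAlg.inl k A) * WithConv.toConv (TorsAlg.inr k A) :
    WithConv (A →ₐ[k] A ⊗[k] A))).ofConv = TorsAlg.dl k A := by
  have h : (Algebra.TensorProduct.lmul' k).comp
      (Algebra.TensorProduct.map (TorsAlg.inl k A) (TorsAlg.inr k A)) = AlgHom.id k (A ⊗[k] A) := by
    apply Algebra.TensorProduct.ext
    · ext a
      simp
    · ext a
      simp
  rw [AlgHom.convMul_def]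
  change ((Algebra.TensorProduct.lmul' k).comp ((Algebra.TensorProduct.map (TorsAlg.inl k A)
    (TorsAlg.inr k A)).comp (TorsAlg.dl k A))) = _
  rw [← AlgHom.comp_assoc, h, AlgHom.id_comp]

theorem exists_pow_eq_one [IsAlgClosed k] [IsDomain A] [Algebra.FiniteType k A] (c : Pic (Spec (CommRingCat.of A)))
    (hc : pull (Spec.map (CommRingCat.ofHom (TorsAlg.dl k A).toRingHom)) c =
      pull (Spec.map (CommRingCat.ofHom (TorsAlg.inl k A).toRingHom)) c *
        pull (Spec.map (CommRingCat.ofHom (TorsAlg.inr k A).toRingHom)) c) :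
    ∃ n : ℕ, n ≠ 0 ∧ c ^ n = 1 := by
  have hdom : IsDomain (A ⊗[k] A) := Groth.Agent.Fdesc.TensorDomain.isDomain_tensorProduct
  obtain ⟨D, hD, rfl⟩ := AffPic.exists_dcl (R := A) c
  have hI := AffPic.isInv_idl hD
  have key : ∀ (φ : A →ₐ[k] A ⊗[k] A) (_ : Function.Injective φ),
      AffPic.idl (D.comap (Spec.map (CommRingCat.ofHom φ.toRingHom))) = (AffPic.idl D).map φ ∧
      ∃ h : BlowUp.IsEffCartierIdeal (D.comap (Spec.map (CommRingCat.ofHom φ.toRingHom))),
        pull (Spec.map (CommRingCat.ofHom φ.toRingHom)) (dcl D hD) = dcl _ h := by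
    intro φ hφ
    have h1 : AffPic.idl (D.comap (Spec.map (CommRingCat.ofHom φ.toRingHom))) = (AffPic.idl D).map φ :=
      AffPic.idl_comap φ.toRingHom D
    have h2 : BlowUp.IsEffCartierIdeal (D.comap (Spec.map (CommRingCat.ofHom φ.toRingHom))) := by
      apply AffPic.isEff_of_isInv
      rw [h1]
      exact hI.map hφ
    exact ⟨h1, h2, pull_dcl _ D hD _ h2 rfl⟩
  obtain ⟨a1, a2, a3⟩ := key (TorsAlg.dl k A) TorsAlg.comul_injective
  obtain ⟨b1, b2, b3⟩ := key (TorsAlg.inl k A) TorsAlg.inl_injective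
  obtain ⟨c1, c2, c3⟩ := key (TorsAlg.inr k A) TorsAlg.inr_injective
  rw [a3, b3, c3, ← dcl_mul b2 c2] at hc
  obtain ⟨x, y, hx, hy, h⟩ := AffPic.exists_of_dcl_eq a2 (isEff_mul b2 c2) hc
  rw [AffPic.idl_mul, a1, b1, c1] at h
  obtain ⟨n, d, hn, hd⟩ := TorsAlg.exists_pow_eq_span hI hx hy h
  exact ⟨n, hn, AffPic.dcl_pow_eq_one hD hd⟩

end

/-- **The Picard group of a connected linear group is torsion.** -/
theorem isTorsion {k : Type u} [Field k] [IsAlgClosed k] (G : Over (Spec (CommRingCat.of k))) [GrpObj G]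
    [IsAffine G.left] [Smooth G.hom] [ConnectedSpace ↥G.left] (c : Pic G.left) : ∃ n : ℕ, n ≠ 0 ∧ c ^ n = 1 := by
  obtain ⟨A, _, _, e, he⟩ := exists_hopf k G
  have hint : IsIntegral G.left := K407.Chart.isIntegral_of_connected G
  have hiso : IsIso e.inv.left := inferInstanceAs (IsIso ((Over.forget _).map e.inv))
  have hdom : IsDomain A := by
    have hiso : IsIso e.hom.left := inferInstanceAs (IsIso ((Over.forget _).map e.hom))
    have : IsIntegral (SpecOver k A).left := IsIntegral.of_isIso e.hom.left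
    exact (affine_isIntegral_iff (CommRingCat.of A)).1 this
  have hft : Algebra.FiniteType k A := by
    rw [← Groth.Agent.Books.AffBridge2.locallyOfFiniteType_specOver_iff k, ← Over.w e.inv]
    infer_instance
  have h : ∃ n : ℕ, n ≠ 0 ∧ (pull e.inv.left c) ^ n = 1 := exists_pow_eq_one (k := k) (A := A) (pull e.inv.left c) (by
    have h1 := pull_mul G c (specMap k (TorsAlg.inl k A) ≫ e.inv) (specMap k (TorsAlg.inr k A) ≫ e.inv)
    have h2 : (specMap k (TorsAlg.inl k A) ≫ e.inv) * (specMap k (TorsAlg.inr k A) ≫ e.inv) =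
        specMap k (TorsAlg.dl k A) ≫ e.inv := by
      have : IsMonHom e.inv := inferInstance
      rw [← MonObj.mul_comp, ← ofConv_mul, specMap_mul]
    rw [h2, Over.comp_left, Over.comp_left, Over.comp_left, pull_comp, pull_comp, pull_comp] at h1
    exact h1)
  obtain ⟨n, hn, h⟩ := h
  refine ⟨n, hn, ?_⟩
  apply K395.Transl.pull_injective_of_isIso e.inv.left
  rw [map_pow, h, map_one]

end K407.PicTors
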