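import Groth.Agent.AlgGrp.K407.IdealInv
import Groth.Agent.Dix.IdealQuot
import Mathlib.RingTheory.Ideal.MinimalPrime.Localization
import Mathlib.RingTheory.Localization.AtPrime.Basic
import Mathlib.RingTheory.Localization.Ideal
import Mathlib.RingTheory.UniqueFactorizationDomain.Basic

/-!
# Factorization of invertible ideals in a locally factorial domain

`mem_closure`: `A` a Noetherian domain with factorial local rings, `f ≠ 0`, `I` an invertible ideal containing a power
of `f`. Then `I` is a product of minimal primes over `f`, which are invertible (`isInv_of_minimal`).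
-/

set_option autoImplicit false

namespace K407.PrimeFac

open K407.IdealInv

section ufd

variable {R : Type*} [CommRing R] [IsDomain R] [UniqueFactorizationMonoid R]

/-- A prime ideal containing `g ≠ 0` contains a prime factor of `g`. -/
theorem exists_prime_dvd {g : R} (hg : g ≠ 0) {P : Ideal R} (hP : P.IsPrime) (hgP : g ∈ P) :
    ∃ p, Prime p ∧ p ∣ g ∧ p ∈ P := by
  obtain ⟨s, hs, hsg⟩ := UniqueFactorizationMonoid.exists_prime_factors g hg
  have h1 : s.prod ∈ P := by
    obtain ⟨u, hu⟩ := hsg
    rw [← hu] at hgP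
    exact (hP.mem_or_mem hgP).resolve_right fun h => hP.ne_top (Ideal.eq_top_of_isUnit_mem _ h u.isUnit)
  obtain ⟨p, hp, hpP⟩ := (hP.multiset_prod_mem_iff_exists_mem s).1 h1
  exact ⟨p, hs p hp, (Multiset.dvd_prod hp).trans hsg.dvd, hpP⟩

theorem exists_span_of_minimal {g : R} (hg : g ≠ 0) {P : Ideal R} (hP : P ∈ (Ideal.span {g}).minimalPrimes) :
    ∃ p, Prime p ∧ p ∣ g ∧ P = Ideal.span {p} := by
  obtain ⟨p, hp, hpg, hpP⟩ := exists_prime_dvd hg hP.1.1 (hP.1.2 (Ideal.mem_span_singleton_self g))
  refine ⟨p, hp, hpg, le_antisymm ?_ ?_⟩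
  · refine hP.2 ⟨(Ideal.span_singleton_prime hp.ne_zero).2 hp, ?_⟩ ?_
    · rwa [Ideal.span_singleton_le_span_singleton]
    · rwa [Ideal.span_le, Set.singleton_subset_iff]
  · rwa [Ideal.span_le, Set.singleton_subset_iff]

end ufd

/-- Invertible ideals of local domains are principal. -/
theorem exists_span_of_isLocalRing {R : Type*} [CommRing R] [IsDomain R] [IsLocalRing R] {I : Ideal R} (hI : IsInv I) :
    ∃ t, t ≠ 0 ∧ I = Ideal.span {t} := by
  obtain ⟨t, ht, htm⟩ := Set.not_subset.1
    (hI.not_le_mul (IsLocalRing.maximalIdeal.isMaximal R).ne_top)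
  refine ⟨t, ?_, hI.eq_span ht fun m hm => ?_⟩
  · rintro rfl
    exact htm (zero_mem _)
  · rw [IsLocalRing.eq_maximalIdeal hm]
    exact htm

variable {A : Type*} [CommRing A] [IsDomain A]

/-- Minimal primes over invertible ideals have height one. -/
theorem eq_of_minimal {I P P' : Ideal A} (hI : IsInv I) (hP : P ∈ I.minimalPrimes) [hP'p : P'.IsPrime] (hP' : P' ≠ ⊥)
    (hle : P' ≤ P) (hufd : ∀ (_ : P.IsPrime), UniqueFactorizationMonoid (Localization.AtPrime P)) : P' = P := by
  have hPp : P.IsPrime := hP.1.1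
  have hufd' := hufd hPp
  let R := Localization.AtPrime P
  have hinj : Function.Injective (algebraMap A R) :=
    IsLocalization.injective R P.primeCompl_le_nonZeroDivisors
  obtain ⟨g, hg0, hg⟩ := exists_span_of_isLocalRing (hI.map (φ := algebraMap A R) hinj)
  have hmax : (IsLocalRing.maximalIdeal R).comap (algebraMap A R) = P := Localization.AtPrime.under_maximalIdeal
  have hmax2 : P.map (algebraMap A R) = IsLocalRing.maximalIdeal R := Localization.AtPrime.map_eq_maximalIdeal
  have hm : IsLocalRing.maximalIdeal R ∈ (Ideal.span {g}).minimalPrimes := by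
    refine ⟨⟨inferInstance, ?_⟩, fun Q ⟨hQ, hgQ⟩ hQm => ?_⟩
    · rw [← hg, Ideal.map_le_iff_le_comap, hmax]
      exact hP.1.2
    · rw [← hmax2, Ideal.map_le_iff_le_comap]
      refine hP.2 ⟨Ideal.comap_isPrime _ _, ?_⟩ ?_
      · rw [← Ideal.map_le_iff_le_comap, hg]
        exact hgQ
      · exact (Ideal.comap_mono hQm).trans hmax.le
  obtain ⟨p, hp, -, hpm⟩ := exists_span_of_minimal hg0 hm
  have hdisj : Disjoint (P.primeCompl : Set A) (P' : Set A) := by
    rw [Set.disjoint_left]
    intro a ha ha'
    exact ha (hle ha')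
  have hQ' : (P'.map (algebraMap A R)).IsPrime := IsLocalization.isPrime_of_isPrime_disjoint P.primeCompl R P' ‹_› hdisj
  obtain ⟨f, hf, hf0⟩ := Submodule.exists_mem_ne_zero_of_ne_bot hP'
  obtain ⟨q, hq, -, hqP⟩ := exists_prime_dvd ((map_ne_zero_iff (algebraMap A R) hinj).2 hf0) hQ'
    (Ideal.mem_map_of_mem _ hf)
  have h1 : q ∈ IsLocalRing.maximalIdeal R := by
    rw [← hmax2]
    exact Ideal.map_mono hle hqP
  rw [hpm, Ideal.mem_span_singleton] at h1
  have h2 : Associated p q := hp.associated_of_dvd hq h1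
  have h3 : IsLocalRing.maximalIdeal R ≤ P'.map (algebraMap A R) := by
    rw [hpm, Ideal.span_le, Set.singleton_subset_iff]
    obtain ⟨u, hu⟩ := h2.symm
    rw [← hu]
    exact Ideal.mul_mem_right _ _ hqP
  refine le_antisymm hle ?_
  have h4 := Ideal.comap_mono (f := algebraMap A R) h3
  rw [hmax] at h4
  exact h4.trans (IsLocalization.under_map_of_isPrime_disjoint P.primeCompl R ‹_› hdisj).le

variable [IsNoetherianRing A]

/-- Minimal primes over `f ≠ 0` are invertible if the local rings are factorial. -/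
theorem isInv_of_minimal {f : A} (hf : f ≠ 0) {P : Ideal A} (hP : P ∈ (Ideal.span {f}).minimalPrimes)
    (hufd : ∀ (Q : Ideal A) [Q.IsPrime], UniqueFactorizationMonoid (Localization.AtPrime Q)) : IsInv P := by
  have hPp : P.IsPrime := hP.1.1
  refine ⟨(Ideal.span {f}).colon (P : Set A), f, hf, le_antisymm ?_ ?_⟩
  · rw [Ideal.mul_le]
    intro r hr s hs
    rw [mul_comm]
    exact Submodule.mem_colon.1 hs r hr
  · apply Ideal.le_of_localization_maximal
    intro M hM
    have hufdM := hufd M
    let R := Localization.AtPrime M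
    have hinj : Function.Injective (algebraMap A R) :=
      IsLocalization.injective R M.primeCompl_le_nonZeroDivisors
    have key : ∃ p : R, p ∣ algebraMap A R f ∧ P.map (algebraMap A R) = Ideal.span {p} := by
      by_cases hPM : P ≤ M
      · have hdisj : Disjoint (M.primeCompl : Set A) (P : Set A) := by
          rw [Set.disjoint_left]
          intro a ha ha'
          exact ha (hPM ha')
        have hmin : P.map (algebraMap A R) ∈ (Ideal.span {algebraMap A R f}).minimalPrimes := by
          refine ⟨⟨IsLocalization.isPrime_of_isPrime_disjoint M.primeCompl R P ‹_› hdisj, ?_⟩,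
            fun Q ⟨hQ, hgQ⟩ hQm => ?_⟩
          · rw [Ideal.span_le, Set.singleton_subset_iff]
            exact Ideal.mem_map_of_mem _ (hP.1.2 (Ideal.mem_span_singleton_self f))
          · rw [Ideal.map_le_iff_le_comap]
            refine hP.2 ⟨Ideal.comap_isPrime _ _, ?_⟩ ?_
            · rw [Ideal.span_le, Set.singleton_subset_iff]
              exact hgQ (Ideal.mem_span_singleton_self _)
            · have h4 := Ideal.comap_mono (f := algebraMap A R) hQm
              exact h4.trans (IsLocalization.under_map_of_isPrime_disjoint M.primeCompl R ‹_› hdisj).le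
        obtain ⟨p, -, hpf, hp⟩ := exists_span_of_minimal ((map_ne_zero_iff (algebraMap A R) hinj).2 hf) hmin
        exact ⟨p, hpf, hp⟩
      · refine ⟨1, one_dvd _, ?_⟩
        obtain ⟨a, ha, haM⟩ := Set.not_subset.1 hPM
        rw [Ideal.span_singleton_one]
        refine Ideal.eq_top_of_isUnit_mem _ (Ideal.mem_map_of_mem _ ha) ?_
        exact IsLocalization.map_units R (⟨a, haM⟩ : M.primeCompl)
    obtain ⟨p, ⟨g, hg⟩, hp⟩ := key
    rw [Ideal.map_mul, Groth.Agent.Dix.IdealQuot.map_colon M.primeCompl R _ _ (IsNoetherian.noetherian P), hp,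
      Ideal.map_span, Set.image_singleton, Ideal.span_le, Set.singleton_subset_iff, hg]
    refine Ideal.mul_mem_mul (Ideal.mem_span_singleton_self p) ?_
    rw [Submodule.mem_colon]
    intro r hr
    obtain ⟨s, rfl⟩ := Ideal.mem_span_singleton'.1 hr
    rw [smul_eq_mul]
    exact Ideal.mem_span_singleton'.2 ⟨s, by ring⟩

/-- Invertible ideals containing a power of `f` are products of minimal primes over `f`. -/
theorem mem_closure {f : A} (hf : f ≠ 0)
    (hufd : ∀ (Q : Ideal A) [Q.IsPrime], UniqueFactorizationMonoid (Localization.AtPrime Q)) {I : Ideal A}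
    (hI : IsInv I) (hfI : ∃ n, f ^ n ∈ I) :
    I ∈ Submonoid.closure ((Ideal.span {f}).minimalPrimes : Set (Ideal A)) := by
  induction I using WellFoundedGT.induction with
  | ind I ih =>
  obtain ⟨n, hn⟩ := hfI
  by_cases hI1 : I = ⊤
  · rw [hI1, ← Ideal.one_eq_top]
    exact one_mem _
  obtain ⟨P, hP⟩ := Ideal.nonempty_minimalPrimes hI1
  have hPp : P.IsPrime := hP.1.1
  have hfP : f ∈ P := hPp.mem_of_pow_mem n (hP.1.2 hn)
  obtain ⟨P', hP', hle⟩ := Ideal.exists_minimalPrimes_le (I := Ideal.span {f}) (J := P) (by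
    rwa [Ideal.span_le, Set.singleton_subset_iff])
  have hP'p : P'.IsPrime := hP'.1.1
  have hP'0 : P' ≠ ⊥ := by
    rintro rfl
    exact hf (hP'.1.2 (Ideal.mem_span_singleton_self f))
  obtain rfl := eq_of_minimal hI hP hP'0 hle (fun _ => hufd P)
  have hPi := isInv_of_minimal hf hP' hufd
  obtain ⟨J, rfl⟩ := hPi.exists_mul_eq hP.1.2
  have hJ : IsInv J := by
    rw [mul_comm] at hI
    exact hI.of_mul
  refine mul_mem (Submonoid.subset_closure hP') (ih J ?_ hJ ⟨n, Ideal.mul_le_right hn⟩)
  refine lt_of_le_of_ne Ideal.mul_le_right ?_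
  intro h
  exact hJ.not_le_mul hPp.ne_top h.ge

end K407.PrimeFac
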