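import Groth.Agent.AlgGrp.K407.AffPic
import Groth.Agent.AlgGrp.K407.PrimeFac
import Groth.Agent.AlgGrp.K407.PicTors
import Groth.Agent.S1535
import Groth.Agent.S2821
import Mathlib.GroupTheory.FiniteAbelian.Basic

/-!
# The Picard group of a connected linear group is finite

* `closure_eq_top`: `A` Noetherian locally factorial domain, `Pic (Spec A_f) = 1`: the group `Pic (Spec A)` is finitely
  generated (by the classes of the minimal primes over `f`);
* `finite_pic`: `Pic G` is finite for a connected linear group `G`.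
-/

set_option autoImplicit false
universe u
open CategoryTheory Limits MonoidalCategory CartesianMonoidalCategory MonObj GrpObj AlgebraicGeometry
open Groth.Agent.Grpsch.PicGrp Groth.Agent.Sga7.H591.Dcl Groth.Agent.Divis.EffCartier Groth.Agent.Books.AffBridge
open K407.AffPic K407.IdealInv

namespace K407.PicFin

section

variable {A : Type u} [CommRing A] [IsDomain A]

theorem dcl_mem {mp : Set (Ideal A)} {S : Subgroup (Pic (Spec (CommRingCat.of A)))}
    (hS : ∀ (D : (Spec (CommRingCat.of A)).IdealSheafData) (hD : BlowUp.IsEffCartierIdeal D), idl D ∈ mp →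
      dcl D hD ∈ S) {I : Ideal A} (hI : I ∈ Submonoid.closure mp) :
    ∀ (D : (Spec (CommRingCat.of A)).IdealSheafData) (hD : BlowUp.IsEffCartierIdeal D), idl D = I → dcl D hD ∈ S := by
  induction hI using Submonoid.closure_induction with
  | mem I h =>
    rintro D hD rfl
    exact hS D hD h
  | one =>
    intro D hD h
    rw [dcl_eq_one_of_span hD (z := 1) (by rw [h, Ideal.one_eq_top, Ideal.span_singleton_one])]
    exact one_mem _
  | mul I J _ _ hI hJ =>
    intro D hD h
    obtain ⟨E, rfl⟩ := exists_idl I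
    obtain ⟨F, rfl⟩ := exists_idl J
    rw [← idl_mul] at h
    obtain rfl := idl_injective h
    have hE := Groth.Agent.Divis.BlowUpFormal.isEff_of_mul hD
    have hF := Groth.Agent.Divis.BlowUpFormal.isEff_of_mul_right hD
    have h1 : dcl (E * F) hD = dcl E hE * dcl F hF := dcl_mul hE hF
    rw [h1]
    exact mul_mem (hI E hE rfl) (hJ F hF rfl)

/-- `Pic (Spec A)` is generated by the classes of the minimal primes over `f` if `Pic (Spec A_f)` is trivial. -/
theorem exists_finite_closure [IsNoetherianRing A]
    (hufd : ∀ (Q : Ideal A) [Q.IsPrime], UniqueFactorizationMonoid (Localization.AtPrime Q)) {f : A} (hf : f ≠ 0)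
    (htriv : ∀ c : Pic (Spec (CommRingCat.of (Localization.Away f))), c = 1) :
    ∃ S : Set (Pic (Spec (CommRingCat.of A))), Subgroup.closure S = ⊤ ∧ S.Finite := by
  let mp : Set (Ideal A) := (Ideal.span {f}).minimalPrimes
  have hmp : mp.Finite := Ideal.finite_minimalPrimes_of_isNoetherianRing A _
  let S : Set (Pic (Spec (CommRingCat.of A))) :=
    (fun D : {D : (Spec (CommRingCat.of A)).IdealSheafData // BlowUp.IsEffCartierIdeal D} => dcl D.1 D.2) ''
      ((fun D => idl D.1) ⁻¹' mp)
  refine ⟨S, ?_, (hmp.preimage (Function.Injective.injOn (idl_injective.comp Subtype.val_injective))).image _⟩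
  rw [eq_top_iff]
  intro c _
  obtain ⟨D, hD, rfl⟩ := exists_dcl c
  have hI := isInv_idl hD
  let B := Localization.Away f
  have hinj : Function.Injective (algebraMap A B) :=
    IsLocalization.injective B (powers_le_nonZeroDivisors_of_noZeroDivisors hf)
  have hdomB : IsDomain B := IsLocalization.isDomain_localization (powers_le_nonZeroDivisors_of_noZeroDivisors hf)
  have hIB : IsInv ((idl D).map (algebraMap A B)) := hI.map hinj
  -- the restriction is principal
  obtain ⟨a, ha, haB⟩ : ∃ a : B, a ≠ 0 ∧ (idl D).map (algebraMap A B) = Ideal.span {a} := by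
    have h1 := idl_comap (algebraMap A B) D
    have h2 : BlowUp.IsEffCartierIdeal (D.comap (Spec.map (CommRingCat.ofHom (algebraMap A B)))) := by
      apply isEff_of_isInv
      rw [h1]
      exact hIB
    obtain ⟨z, hz, h3⟩ := exists_span_of_dcl_eq_one h2 (htriv _)
    exact ⟨z, hz, by rw [← h1, h3]⟩
  obtain ⟨⟨⟨b, hb⟩, s⟩, hs⟩ := (IsLocalization.mem_map_algebraMap_iff (Submonoid.powers f) B (I := idl D)).1
    (show a ∈ (idl D).map (algebraMap A B) by rw [haB]; exact Ideal.mem_span_singleton_self a)
  simp only at hs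
  have hsu : IsUnit (algebraMap A B s) := IsLocalization.map_units B s
  have hbB : Ideal.span {algebraMap A B b} = (idl D).map (algebraMap A B) := by
    rw [haB, ← hs]
    exact Ideal.span_singleton_mul_right_unit hsu a
  have hb0 : b ≠ 0 := by
    rintro rfl
    rw [map_zero] at hs
    exact ha ((mul_eq_zero.1 hs).resolve_right hsu.ne_zero)
  obtain ⟨J, hJ⟩ := hI.exists_mul_eq (K := Ideal.span {b}) (by
    rwa [Ideal.span_le, Set.singleton_subset_iff])
  have hJi : IsInv J := by
    have h1 : IsInv (Ideal.span {b}) := inv_span hb0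
    rw [hJ, mul_comm] at h1
    exact h1.of_mul
  have hJB : J.map (algebraMap A B) = ⊤ := by
    apply hIB.cancel
    rw [← Ideal.map_mul, ← hJ, Ideal.map_span, Set.image_singleton, hbB, Ideal.mul_top]
  have hfJ : ∃ n, f ^ n ∈ J := by
    have h1 : (1 : B) ∈ J.map (algebraMap A B) := by rw [hJB]; trivial
    obtain ⟨⟨⟨j, hj⟩, t⟩, ht⟩ := (IsLocalization.mem_map_algebraMap_iff (Submonoid.powers f) B).1 h1
    simp only [_root_.one_mul] at ht
    obtain ⟨n, hn⟩ := t.2
    refine ⟨n, ?_⟩
    have h2 : (t : A) = j := hinj ht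
    have h3 : f ^ n = (t : A) := hn
    rw [h3, h2]
    exact hj
  have hJc := PrimeFac.mem_closure hf hufd hJi hfJ
  obtain ⟨E, rfl⟩ := exists_idl J
  have hE : BlowUp.IsEffCartierIdeal E := isEff_of_isInv hJi
  have h1 : dcl E hE ∈ Subgroup.closure S := by
    refine dcl_mem (mp := mp) ?_ hJc E hE rfl
    intro F hF h
    exact Subgroup.subset_closure ⟨⟨F, hF⟩, h, rfl⟩
  have h2 : dcl D hD * dcl E hE = 1 := by
    rw [← dcl_mul hD hE]
    exact dcl_eq_one_of_span _ (z := b) (by rw [idl_mul, ← hJ])
  rw [eq_inv_of_mul_eq_one_left h2]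
  exact inv_mem h1

end

/-- **The Picard group of a connected linear group is finite.** -/
theorem finite_pic {k : Type u} [Field k] [IsAlgClosed k] (G : Over (Spec (CommRingCat.of k))) [GrpObj G]
    [IsAffine G.left] [Smooth G.hom] [ConnectedSpace ↥G.left] : Finite (Pic G.left) := by
  obtain ⟨A, _, _, e, he⟩ := exists_hopf k G
  have hint : IsIntegral G.left := K407.Chart.isIntegral_of_connected G
  have hiso : IsIso e.inv.left := inferInstanceAs (IsIso ((Over.forget _).map e.inv))
  have hiso' : IsIso e.hom.left := inferInstanceAs (IsIso ((Over.forget _).map e.hom))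
  have hdom : IsDomain A := by
    have : IsIntegral (SpecOver k A).left := IsIntegral.of_isIso e.hom.left
    exact (affine_isIntegral_iff (CommRingCat.of A)).1 this
  have hsm : Smooth (SpecOver k A).hom := by
    rw [← Over.w e.inv]
    infer_instance
  have hft : Algebra.FiniteType k A := by
    rw [← Groth.Agent.Books.AffBridge2.locallyOfFiniteType_specOver_iff k]
    infer_instance
  have hnoeth : IsNoetherianRing A := Algebra.FiniteType.isNoetherianRing k A
  have hufd : ∀ (Q : Ideal A) [Q.IsPrime], UniqueFactorizationMonoid (Localization.AtPrime Q) := by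
    intro Q hQ
    let x : Spec (CommRingCat.of A) := ⟨Q, hQ⟩
    let _ : (Spec (CommRingCat.of A)).Over (Spec (CommRingCat.of k)) := ⟨(SpecOver k A).hom⟩
    have h1 : Smooth ((Spec (CommRingCat.of A)) ↘ (Spec (CommRingCat.of k))) := hsm
    have h2 : IsRegularLocalRing ((Spec (CommRingCat.of A)).presheaf.stalk x) := Groth.Agent.S1535.result k _ x
    have h3 := (Groth.Agent.S2821.result ((Spec (CommRingCat.of A)).presheaf.stalk x)).2
    exact (StructureSheaf.stalkIso A x).symm.toMulEquiv.uniqueFactorizationMonoid h3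
  obtain ⟨n, W, w, j, hw, ⟨p⟩, hj, hjo⟩ := K407.Chart.exists_chart G
  let φ : W.left ⟶ Spec (CommRingCat.of A) := w.left ≫ e.hom.left
  have hφ : IsOpenImmersion φ := inferInstanceAs (IsOpenImmersion (w.left ≫ e.hom.left))
  obtain ⟨-, ⟨f, rfl⟩, hpf, hfU⟩ := PrimeSpectrum.isTopologicalBasis_basic_opens.exists_subset_of_mem_open
    (a := (φ p : PrimeSpectrum A)) (u := Set.range φ) ⟨p, rfl⟩ φ.isOpenEmbedding.isOpen_range
  have hf : f ≠ 0 := by
    rintro rfl
    have h1 : (0 : A) ∉ (show PrimeSpectrum A from φ p).asIdeal := hpf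
    exact h1 (zero_mem _)
  let io : Spec (CommRingCat.of (Localization.Away f)) ⟶ Spec (CommRingCat.of A) :=
    Spec.map (CommRingCat.ofHom (algebraMap A (Localization.Away f)))
  have hio : IsOpenImmersion io := inferInstance
  have hioU : Set.range io ⊆ Set.range φ := by
    refine Set.Subset.trans ?_ hfU
    exact (PrimeSpectrum.localization_away_comap_range (Localization.Away f) f).le
  let ψ : Spec (CommRingCat.of (Localization.Away f)) ⟶ W.left := IsOpenImmersion.lift φ io hioU
  have hψ : IsOpenImmersion ψ := by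
    have : IsOpenImmersion (ψ ≫ φ) := by rw [IsOpenImmersion.lift_fac]; exact hio
    exact IsOpenImmersion.of_comp ψ φ
  obtain ⟨S, hS, hSf⟩ := exists_finite_closure hufd hf (fun c => K395.PicRat.trivial_of_openImm
    (R := MvPolynomial (ULift.{u} (Fin n)) k) (ψ ≫ j ≫ (AffineSpace.SpecIso _ (CommRingCat.of k)).hom) c)
  have hfg : Group.FG (Pic (Spec (CommRingCat.of A))) := Group.fg_iff.2 ⟨S, hS, hSf⟩
  let eh : G.left ⟶ Spec (CommRingCat.of A) := e.hom.left
  let ei : Spec (CommRingCat.of A) ⟶ G.left := e.inv.left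
  have heh : IsIso eh := hiso'
  have hei : IsIso ei := hiso
  have htors : IsMulTorsion (Pic (Spec (CommRingCat.of A))) := by
    intro c
    obtain ⟨n, hn, h⟩ := PicTors.isTorsion G (pull eh c)
    rw [isOfFinOrder_iff_pow_eq_one]
    refine ⟨n, Nat.pos_of_ne_zero hn, ?_⟩
    apply K395.Transl.pull_injective_of_isIso eh
    rw [map_one, map_pow, h]
  have hfin : Finite (Pic (Spec (CommRingCat.of A))) := CommGroup.finite_of_fg_isMulTorsion _ htors
  exact Finite.of_injective (pull ei) (K395.Transl.pull_injective_of_isIso ei)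

end K407.PicFin
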