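import Groth.Agent.Brauer.K442.PnVp
import Groth.Agent.CohqB.ProjBC

/-!
# Points of `P^N_k` with values in arbitrary `k`-schemes, and the morphism `G × P^N → P^N` attached to a matrix over
`Γ(G, O)`
-/

set_option autoImplicit false
universe u
open CategoryTheory CategoryTheory.Limits AlgebraicGeometry MonoidalCategory CartesianMonoidalCategory

namespace K407.PnPoint

open K442.PnVp K442.PnLin Groth.Agent.CohqB.ProjBC Groth.Agent.Sga5.ProjChart

variable {k : Type u} [Field k] {N : ℕ}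

/-- Projective space as a scheme over `Spec k`. -/
noncomputable abbrev P (N : ℕ) (k : Type u) [Field k] : Over (Spec (CommRingCat.of k)) :=
  Over.mk (CohB1.ProjSpace.toSpec N k)

/-- The structure map of the global functions. -/
noncomputable def str (T : Over (Spec (CommRingCat.of k))) : k →+* Γ(T.left, ⊤) :=
  (T.hom.appTop).hom.comp (Scheme.ΓSpecIso (CommRingCat.of k)).inv.hom

theorem hom_eq (T : Over (Spec (CommRingCat.of k))) :
    T.left.toSpecΓ ≫ Spec.map (CommRingCat.ofHom (str T)) = T.hom := by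
  have h1 : CommRingCat.ofHom (str T) = (Scheme.ΓSpecIso (CommRingCat.of k)).inv ≫ T.hom.appTop := rfl
  rw [h1, Spec.map_comp]
  have h2 : T.left.toSpecΓ ≫ Spec.map T.hom.appTop = T.hom ≫ (Spec (CommRingCat.of k)).toSpecΓ :=
    (Scheme.toSpecΓ_naturality T.hom).symm
  rw [reassoc_of% h2, toSpecΓ_SpecMap_ΓSpecIso_inv, Category.comp_id]

theorem str_comp {S T : Over (Spec (CommRingCat.of k))} (g : S ⟶ T) :
    g.left.appTop.hom.comp (str T) = str S := by
  have h1 : g.left.appTop.hom.comp T.hom.appTop.hom = S.hom.appTop.hom := by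
    rw [← CommRingCat.hom_comp, ← Scheme.Hom.comp_appTop, Over.w g]
  rw [str, str, ← h1]
  rfl

/-- The point with homogeneous coordinates `v`. -/
noncomputable def pt (T : Over (Spec (CommRingCat.of k))) (v : Fin (N + 1) → Γ(T.left, ⊤)) (i : Fin (N + 1))
    (hi : IsUnit (v i)) : T ⟶ P N k :=
  Over.homMk (T.left.toSpecΓ ≫ vp (str T) v i hi) (by
    change (T.left.toSpecΓ ≫ vp (str T) v i hi) ≫ CohB1.ProjSpace.toSpec N k = _
    rw [Category.assoc, vp_toSpec, hom_eq])

theorem pt_left (T : Over (Spec (CommRingCat.of k))) (v : Fin (N + 1) → Γ(T.left, ⊤)) (i : Fin (N + 1))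
    (hi : IsUnit (v i)) : (pt T v i hi).left = T.left.toSpecΓ ≫ vp (str T) v i hi := rfl

theorem pt_eq (T : Over (Spec (CommRingCat.of k))) (v w : Fin (N + 1) → Γ(T.left, ⊤)) (i j : Fin (N + 1))
    (hi : IsUnit (v i)) (hj : IsUnit (w j)) (c : Γ(T.left, ⊤)) (h : w = c • v) : pt T v i hi = pt T w j hj := by
  ext1
  rw [pt_left, pt_left, vp_eq _ v w i j hi hj c h]

theorem comp_pt {S T : Over (Spec (CommRingCat.of k))} (g : S ⟶ T) (v : Fin (N + 1) → Γ(T.left, ⊤)) (i : Fin (N + 1))
    (hi : IsUnit (v i)) : g ≫ pt T v i hi = pt S (g.left.appTop.hom ∘ v) i (hi.map g.left.appTop.hom) := by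
  ext1
  rw [Over.comp_left, pt_left, pt_left]
  have h2 : g.left ≫ T.left.toSpecΓ = S.left.toSpecΓ ≫ Spec.map (CommRingCat.ofHom g.left.appTop.hom) :=
    Scheme.toSpecΓ_naturality g.left
  rw [reassoc_of% h2, spec_vp g.left.appTop.hom (str T) v i hi (hi.map g.left.appTop.hom)]
  congr 1
  exact vp_congr _ _ (str_comp g) _ _ rfl i i _ _

/-- The map `G × P^N_k → P^N_R`, `R = Γ(G, O)`. -/
noncomputable def toPR (G : Over (Spec (CommRingCat.of k))) (N : ℕ) : (G ⊗ P N k).left ⟶ CohB1.ProjSpace N Γ(G.left, ⊤) :=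
  (isPullback_pmap (str G) N).lift (snd G (P N k)).left ((fst G (P N k)).left ≫ G.left.toSpecΓ) (by
    rw [Category.assoc, hom_eq, Over.w (fst G (P N k))]
    exact Over.w (snd G (P N k)))

theorem toPR_pmap (G : Over (Spec (CommRingCat.of k))) : toPR G N ≫ pmap (str G) N = (snd G (P N k)).left :=
  (isPullback_pmap (str G) N).lift_fst _ _ _

theorem toPR_toSpec (G : Over (Spec (CommRingCat.of k))) :
    toPR G N ≫ CohB1.ProjSpace.toSpec N _ = (fst G (P N k)).left ≫ G.left.toSpecΓ :=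
  (isPullback_pmap (str G) N).lift_snd _ _ _

theorem vp_pmap {L K R : Type u} [CommRing L] [CommRing K] [CommRing R] (φ : L →+* K) (α : K →+* R)
    (v : Fin (N + 1) → R) (i : Fin (N + 1)) (hi : IsUnit (v i)) :
    vp α v i hi ≫ pmap φ N = vp (α.comp φ) v i hi := by
  let := α.toAlgebra
  let := (α.comp φ).toAlgebra
  exact vecPt_pmap φ (fun c => rfl) v i hi

theorem vp_linHom {K R : Type u} [CommRing K] [CommRing R] (α : K →+* R) (m m' : Matrix (Fin (N + 1)) (Fin (N + 1)) K)
    (h : m * m' = 1) (v : Fin (N + 1) → R) (i : Fin (N + 1)) (hi : IsUnit (v i)) (j : Fin (N + 1))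
    (hj : IsUnit (Matrix.vecMul v (m.map α) j)) :
    vp α v i hi ≫ linHom m m' h = vp α (Matrix.vecMul v (m.map α)) j hj := by
  let := α.toAlgebra
  exact vecPt_linHom m m' h v i hi j hj

theorem lift_toPR {G T : Over (Spec (CommRingCat.of k))} (g : T ⟶ G) (v : Fin (N + 1) → Γ(T.left, ⊤)) (i : Fin (N + 1))
    (hi : IsUnit (v i)) : (lift g (pt T v i hi)).left ≫ toPR G N = T.left.toSpecΓ ≫ vp g.left.appTop.hom v i hi := by
  apply (isPullback_pmap (str G) N).hom_ext
  · rw [Category.assoc, toPR_pmap, ← Over.comp_left, lift_snd, Category.assoc, vp_pmap, pt_left]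
    congr 1
    exact vp_congr _ _ (str_comp g).symm _ _ rfl i i _ _
  · rw [Category.assoc, toPR_toSpec, ← Category.assoc, ← Over.comp_left, lift_fst, Category.assoc, vp_toSpec]
    exact Scheme.toSpecΓ_naturality g.left

/-- The morphism `G × P^N → P^N` attached to an invertible matrix over `Γ(G, O)`. -/
noncomputable def mat (G : Over (Spec (CommRingCat.of k))) (m m' : Matrix (Fin (N + 1)) (Fin (N + 1)) Γ(G.left, ⊤))
    (h : m * m' = 1) : G ⊗ P N k ⟶ P N k :=
  Over.homMk (toPR G N ≫ linHom m m' h ≫ pmap (str G) N) (by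
    have h1 := (isPullback_pmap (str G) N).w
    change (toPR G N ≫ linHom m m' h ≫ pmap (str G) N) ≫ CohB1.ProjSpace.toSpec N k = _
    rw [Category.assoc, Category.assoc, h1, ← Category.assoc (linHom m m' h), linHom_toSpec,
      ← Category.assoc, toPR_toSpec, Category.assoc, hom_eq, Over.w (fst G (P N k))])

theorem lift_mat {G T : Over (Spec (CommRingCat.of k))} (m m' : Matrix (Fin (N + 1)) (Fin (N + 1)) Γ(G.left, ⊤))
    (h : m * m' = 1) (g : T ⟶ G) (v : Fin (N + 1) → Γ(T.left, ⊤)) (i : Fin (N + 1)) (hi : IsUnit (v i))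
    (j : Fin (N + 1)) (hj : IsUnit (Matrix.vecMul v (m.map g.left.appTop.hom) j)) :
    lift g (pt T v i hi) ≫ mat G m m' h = pt T (Matrix.vecMul v (m.map g.left.appTop.hom)) j hj := by
  ext1
  rw [Over.comp_left, pt_left]
  change (lift g (pt T v i hi)).left ≫ toPR G N ≫ linHom m m' h ≫ pmap (str G) N = _
  rw [← Category.assoc, lift_toPR, Category.assoc, ← Category.assoc (vp _ _ _ _), vp_linHom _ m m' h v i hi j hj, vp_pmap]
  congr 1
  exact vp_congr _ _ (str_comp g) _ _ rfl j j _ _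

end K407.PnPoint
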