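import Groth.Agent.AlgGrp.K407.TrigSplit
import Groth.Agent.AlgGrp.K407.LocPoly
import Groth.Agent.Sga3B.RG.CentMax
import Groth.Agent.Sga3B.RG.DynTor2
import Groth.Agent.Sga3B.RG.DynRel
import Groth.Agent.Sga3B.RG.DynUnip
import Groth.Agent.Redsub.H674.UnipPts
import Groth.Agent.Sga3.H814.PolyThm
import Groth.Agent.Sga3B.RG.GaHom
import Groth.Agent.S3305

/-!
# The open cell of a connected affine group is a localization of a polynomial ring

`K` algebraically closed, `A` a finitely generated Hopf domain over `K`, `T` a maximal torus, `λ` a cocharacter of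
`T` with `Z(λ) = Z(T)`.

* `isTrig_Psub`: `P(λ)` is trigonalizable;
* `isLocPoly_of_isTrig`: connected trigonalizable groups are open in affine space;
* `exists_cell`: there is an open immersion `Spec R ⟶ Spec A`, `R` a localization of a polynomial ring.
-/

set_option autoImplicit false

universe u w

open WithConv TensorProduct Coalgebra AlgebraicGeometry CategoryTheory
open scoped LaurentPolynomial
open Groth.Agent.Sga3B.RG Groth.Agent.Sga3B.RG.Trig Groth.Agent.Sga3B.RG.TrigTorus
open K407.LocPoly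

namespace K407.RatCell

variable {K : Type u} [Field K] [IsAlgClosed K] {A : Type u} [CommRing A] [HopfAlgebra K A]
variable [Algebra.FiniteType K A]

/-- Connected unipotent groups over an algebraically closed field are affine spaces. -/
theorem exists_mvPolynomial [IsDomain A] (hU : ∀ g : Pt K A, IsUnip g) :
    ∃ N : ℕ, Nonempty (A ≃ₐ[K] MvPolynomial (Fin N) K) := by
  have hdom : IsDomain (K ⊗[K] A) :=
    (Algebra.TensorProduct.lid K A).toMulEquiv.isDomain
  exact Groth.Agent.Sga3.H814.PolyThm.exists_mvPolynomial K K A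
    (Groth.Agent.Redsub.H674.UnipPts.isUnipotent_of_forall_isUnip hU) A
    Groth.Agent.Sga3.H814.SubInv.isComodAlg_self
    (fun a ha => ⟨_, Groth.Agent.Sga3.H814.PolyThm.fixedPts_self ha⟩)

/-- Connected trigonalizable groups are open in affine space. -/
theorem isLocPoly_of_isTrig [IsDomain A] (hT : IsTrig K A) : IsLocPoly K A := by
  obtain ⟨r, ⟨e⟩⟩ := TrigSplit.exists_equiv hT
  have hdom : IsDomain (A ⧸ vanIdeal (Gu K A : Set (Pt K A))) := isDomain_quot_of_isConn (isConn_Gu hT)
  obtain ⟨N, ⟨e'⟩⟩ := exists_mvPolynomial (K := K) (A := A ⧸ vanIdeal (Gu K A : Set (Pt K A))) (by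
    intro g
    rw [← isUnip_map_iff (φ := Bialgebra.Quotient.mkBialgHom (R := K) (vanIdeal (Gu K A : Set (Pt K A))))
      Ideal.Quotient.mk_surjective, isUnip_iff hT]
    have h1 : quotMap (vanIdeal (Gu K A : Set (Pt K A))) g ∈
        (quotMap (K := K) (vanIdeal (Gu K A : Set (Pt K A)))).range := ⟨g, rfl⟩
    rw [range_quotMap_vanIdeal _ isCl_Gu] at h1
    exact h1)
  refine ((isLocPoly_group K r).tensor N).of_equiv ?_
  exact e.trans ((Algebra.TensorProduct.congr AlgEquiv.refl e').trans (Algebra.TensorProduct.comm K _ _))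

section Psub

variable [IsDomain A] {lam : A →ₐc[K] K[T;T⁻¹]}

/-- `P(λ)` is trigonalizable if `Z(λ)` is the centralizer of a maximal torus. -/
theorem isTrig_Psub {T : Subgroup (Pt K A)} (hT : IsMaxTorusSub T)
    (hZ : Subgroup.centralizer (T : Set (Pt K A)) = Zsub lam) :
    IsTrig K (A ⧸ vanIdeal (Psub lam : Set (Pt K A))) := by
  obtain ⟨hmax, hcen, hdom⟩ := K8.quot_centralizer hT hZ
  apply isTrig_of_simple
  intro V _ _ _ ρ hρ hs
  have hle : vanIdeal (Psub lam : Set (Pt K A)) ≤ vanIdeal (Zsub lam : Set (Pt K A)) :=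
    vanIdeal_anti (Zsub_le_Psub lam)
  have hclP : IsCl (Psub lam : Set (Pt K A)) := isCl_Psub lam
  have hclZ : IsCl (Zsub lam : Set (Pt K A)) := isCl_Zsub lam
  let ζ : A ⧸ vanIdeal (Psub lam : Set (Pt K A)) →ₐc[K] A ⧸ vanIdeal (Zsub lam : Set (Pt K A)) :=
    quotLift _ (Bialgebra.Quotient.mkBialgHom (R := K) (vanIdeal (Zsub lam : Set (Pt K A))))
      (fun a ha => Ideal.Quotient.eq_zero_iff_mem.2 (hle ha))
  have hζ : ∀ z, quotMap (vanIdeal (Psub lam : Set (Pt K A))) (Pt.map ζ z) =
      quotMap (vanIdeal (Zsub lam : Set (Pt K A))) z := fun z => quotMap_map_quotLift _ _ _ z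
  have hmemP : ∀ z, quotMap (vanIdeal (Psub lam : Set (Pt K A))) z ∈ Psub lam := by
    intro z
    have h1 : quotMap (vanIdeal (Psub lam : Set (Pt K A))) z ∈
        (quotMap (K := K) (vanIdeal (Psub lam : Set (Pt K A)))).range := ⟨z, rfl⟩
    rwa [range_quotMap_vanIdeal _ hclP] at h1
  let N : Subgroup (Pt K (A ⧸ vanIdeal (Psub lam : Set (Pt K A)))) :=
    (Usub lam).comap (quotMap (K := K) (vanIdeal (Psub lam : Set (Pt K A))))
  have hNn : N.Normal := by
    constructor
    intro n hn g
    have h1 := Psub_le_normalizer_Usub lam (hmemP g)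
    rw [Subgroup.mem_normalizer_iff] at h1
    change quotMap _ (g * n * g⁻¹) ∈ Usub lam
    rw [map_mul, map_mul, map_inv]
    exact (h1 _).1 hn
  have hNu : ∀ g ∈ N, IsUnip g := by
    intro g hg
    rw [← isUnip_map_iff (φ := Bialgebra.Quotient.mkBialgHom (R := K)
      (vanIdeal (Psub lam : Set (Pt K A)))) Ideal.Quotient.mk_surjective]
    exact isUnip_of_mem_Usub hg
  have htriv := act_trivially_of_isSimpleRep hρ hs hNn hNu
  have hs' : IsSimpleRep (ρ.comp (Pt.map ζ)) := by
    refine ⟨hs.1, fun W hW => hs.2 W fun g w hw => ?_⟩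
    obtain ⟨z, hz, u, hu, hzu⟩ := TopVec.exists_ZU (hmemP g)
    obtain ⟨z', rfl⟩ : z ∈ (quotMap (K := K) (vanIdeal (Zsub lam : Set (Pt K A)))).range := by
      rw [range_quotMap_vanIdeal _ hclZ]; exact hz
    obtain ⟨u', hu'⟩ : u ∈ (quotMap (K := K) (vanIdeal (Psub lam : Set (Pt K A)))).range := by
      rw [range_quotMap_vanIdeal _ hclP]; exact Usub_le_Psub lam hu
    have h1 : g = Pt.map ζ z' * u' := by
      apply quotMap_injective (K := K) (vanIdeal (Psub lam : Set (Pt K A)))
      rw [map_mul, hζ, hu', hzu]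
    have h2 : u' ∈ N := by
      change quotMap _ u' ∈ Usub lam
      rw [hu']
      exact hu
    rw [h1, map_mul, Module.End.mul_apply, htriv u' h2]
    exact hW z' w hw
  exact CentralTorus.finrank_eq_one hmax hcen (hρ.comp_map ζ) hs'

end Psub

open Groth.Agent.Books.DynLim in
variable (K A) in
/-- **The open cell**: a connected affine group contains a nonempty open subscheme which is the spectrum of a
localization of a polynomial ring. -/
theorem exists_cell [IsDomain A] : ∃ (R : Type u) (_ : CommRing R) (_ : Algebra K R) (φ : A →ₐ[K] R),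
    IsLocPoly K R ∧ Nontrivial R ∧ IsOpenImmersion (Spec.map (CommRingCat.ofHom φ.toRingHom)) := by
  obtain ⟨T, -, hT⟩ := GaHom.exists_isMaxTorusSub (GaHom.isTorusSub_bot (K := K) (A := A))
  obtain ⟨lam, -, hZ⟩ := hT.1.exists_coch
  have hP := isTrig_Psub hT hZ
  have hdP : IsDomain (A ⧸ vanIdeal (Psub lam : Set (Pt K A))) := isDomain_quot_of_isConn (isConn_Psub lam)
  have hdU : IsDomain (A ⧸ vanIdeal (Usub (invCoch lam) : Set (Pt K A))) :=
    isDomain_quot_of_isConn (isConn_Usub (invCoch lam))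
  obtain ⟨N, ⟨e⟩⟩ := exists_mvPolynomial (K := K) (A := A ⧸ vanIdeal (Usub (invCoch lam) : Set (Pt K A))) (by
    intro g
    rw [← isUnip_map_iff (φ := Bialgebra.Quotient.mkBialgHom (R := K)
      (vanIdeal (Usub (invCoch lam) : Set (Pt K A)))) Ideal.Quotient.mk_surjective]
    apply isUnip_of_mem_Usub (lam := invCoch lam)
    have h1 : quotMap (vanIdeal (Usub (invCoch lam) : Set (Pt K A))) g ∈
        (quotMap (K := K) (vanIdeal (Usub (invCoch lam) : Set (Pt K A)))).range := ⟨g, rfl⟩
    rw [range_quotMap_vanIdeal _ (isCl_Usub _)] at h1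
    exact h1)
  have hp : Dyn.Represents K A (vanIdeal (Psub lam : Set (Pt K A)))
      (fun R _ _ g => Dyn.LimExists K A lam R g) := by
    rw [vanIdeal_Psub]; exact represents_JP lam
  have hm : Dyn.Represents K A (vanIdeal (Usub (invCoch lam) : Set (Pt K A)))
      (fun R _ _ g => Dyn.LimIsOne K A (invCoch lam) R g) := by
    rw [vanIdeal_Usub]; exact represents_JU (invCoch lam)
  refine ⟨_, inferInstance, inferInstance, _, ?_, ?_, Groth.Agent.S3305.result K A lam (invCoch lam)
    (invCoch_eq_negParam lam) _ _ hp hm⟩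
  · exact ((isLocPoly_of_isTrig hP).tensor N).of_equiv (Algebra.TensorProduct.congr e AlgEquiv.refl)
  · exact (isDomain_tensor (K := K)).toNontrivial

end K407.RatCell
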