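import Groth.Agent.Sga3B.RG.TrigTorus
import Groth.Agent.Sga3B.RG.Rel885
import Groth.Agent.Books.PointsAC

/-!
# Connected trigonalizable groups are products of a torus and their unipotent part, as varieties

* `IsReg.exists_algHom`: regular maps between groups of points are given by algebra homomorphisms;
* `exists_equiv`: `A ≃ₐ K[ℤ^r] ⊗ A / I(G_u)` for a connected trigonalizable group `Spec A`.
-/

set_option autoImplicit false

universe u w

open WithConv TensorProduct Coalgebra
open Groth.Agent.Sga3B.RG Groth.Agent.Sga3B.RG.Trig Groth.Agent.Sga3B.RG.TrigTorus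

namespace K407.TrigSplit

variable {K : Type u} [Field K] {A : Type u} [CommRing A] [HopfAlgebra K A]
variable {B : Type u} [CommRing B] [HopfAlgebra K B]
variable [IsAlgClosed K] [Algebra.FiniteType K A]

section

variable [IsReduced A]

lemma eq_of_pts {a b : A} (h : ∀ g : Pt K A, g a = g b) : a = b := by
  rw [← sub_eq_zero]
  apply Groth.Agent.Books.PointsAC.eq_zero_of_forall_point K A
  intro g
  have := h (toConv g)
  rw [map_sub, sub_eq_zero]
  exact this

/-- Regular maps between groups of points are given by algebra homomorphisms. -/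
theorem exists_algHom {f : Pt K A → Pt K B} (hf : IsReg f) :
    ∃ κ : B →ₐ[K] A, ∀ (g : Pt K A) (b : B), (f g) b = g (κ b) := by
  choose κ hκ using hf
  refine ⟨AlgHom.mk' ⟨⟨⟨κ, ?_⟩, ?_⟩, ?_, ?_⟩ ?_, fun g b => hκ b g⟩
  · apply eq_of_pts (K := K)
    intro g
    rw [← hκ]
    exact (map_one (f g).ofConv).trans (map_one g.ofConv).symm
  · intro x y
    apply eq_of_pts (K := K)
    intro g
    rw [← hκ]
    refine (map_mul (f g).ofConv x y).trans ?_
    refine Eq.trans ?_ (map_mul g.ofConv (κ x) (κ y)).symm
    exact congrArg₂ _ (hκ x g) (hκ y g)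
  · apply eq_of_pts (K := K)
    intro g
    change g (κ 0) = g 0
    rw [← hκ]
    exact (map_zero (f g).ofConv).trans (map_zero g.ofConv).symm
  · intro x y
    apply eq_of_pts (K := K)
    intro g
    change g (κ (x + y)) = g (κ x + κ y)
    rw [← hκ]
    refine (map_add (f g).ofConv x y).trans ?_
    refine Eq.trans ?_ (map_add g.ofConv (κ x) (κ y)).symm
    exact congrArg₂ _ (hκ x g) (hκ y g)
  · intro c x
    apply eq_of_pts (K := K)
    intro g
    change g (κ (c • x)) = g (c • κ x)
    rw [← hκ]
    refine (map_smul (f g).ofConv c x).trans ?_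
    refine Eq.trans ?_ (map_smul g.ofConv c (κ x)).symm
    exact congrArg _ (hκ x g)

end

section split

variable [IsDomain A]

omit [IsAlgClosed K] [Algebra.FiniteType K A] [IsDomain A] in
lemma finiteType_tensor (M D : Type*) [CommRing M] [Algebra K M] [CommRing D] [Algebra K D]
    [Algebra.FiniteType K M] [Algebra.FiniteType K D] : Algebra.FiniteType K (M ⊗[K] D) :=
  Algebra.FiniteType.trans (S := M) inferInstance inferInstance

/-- **Connected trigonalizable groups** are, as varieties, products of a torus and of their unipotent part. -/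
theorem exists_equiv (hT : IsTrig K A) : ∃ r : ℕ,
    Nonempty (A ≃ₐ[K] MonoidAlgebra K (Multiplicative (Fin r → ℤ)) ⊗[K]
      (A ⧸ vanIdeal (Gu K A : Set (Pt K A)))) := by
  obtain ⟨r, e, π, hsurj, hπ⟩ := exists_torusMap hT
  refine ⟨r, ?_⟩
  set J : Ideal A := vanIdeal (Gu K A : Set (Pt K A)) with hJ
  have hftD : Algebra.FiniteType K (A ⧸ J) := inferInstance
  have hredD : IsReduced (A ⧸ J) := isReduced_quot_vanIdeal _
  have hftM : Algebra.FiniteType K (MonoidAlgebra K (Multiplicative (Fin r → ℤ))) :=
    Algebra.FiniteType.of_surjective (π : A →ₐ[K] MonoidAlgebra K (Multiplicative (Fin r → ℤ))) hsurj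
  have hredM : IsReduced (MonoidAlgebra K (Multiplicative (Fin r → ℤ))) := inferInstance
  have hred : IsReduced (MonoidAlgebra K (Multiplicative (Fin r → ℤ)) ⊗[K] (A ⧸ J)) :=
    Groth.Agent.Books.PointsAC.isReduced_tensorProduct K _ _
  have hft : Algebra.FiniteType K (MonoidAlgebra K (Multiplicative (Fin r → ℤ)) ⊗[K] (A ⧸ J)) :=
    finiteType_tensor _ _
  -- the multiplication map
  let φ : A →ₐ[K] MonoidAlgebra K (Multiplicative (Fin r → ℤ)) ⊗[K] (A ⧸ J) :=
    (Algebra.TensorProduct.map (π : A →ₐ[K] MonoidAlgebra K (Multiplicative (Fin r → ℤ)))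
      (Ideal.Quotient.mkₐ K J)).comp (Bialgebra.comulAlgHom K A)
  have hφ : ∀ (t : Pt K (MonoidAlgebra K (Multiplicative (Fin r → ℤ)))) (u : Pt K (A ⧸ J)) (a : A),
      Algebra.TensorProduct.lift t.ofConv u.ofConv (fun _ _ => .all _ _) (φ a) =
        (Pt.map π t * quotMap J u) a := by
    intro t u a
    rw [Pt.mul_apply]
    change ((Algebra.TensorProduct.lift t.ofConv u.ofConv (fun _ _ => .all _ _)).comp
      (Algebra.TensorProduct.map (π : A →ₐ[K] MonoidAlgebra K (Multiplicative (Fin r → ℤ)))
      (Ideal.Quotient.mkₐ K J))) (comul (R := K) a) = _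
    congr 1
    apply Algebra.TensorProduct.ext
    · ext x
      simp
    · ext x
      simp
  -- the torus part
  let ι : MonoidAlgebra K (Multiplicative (Fin r → ℤ)) →ₐ[K] A :=
    MonoidAlgebra.lift K _ _ ((GroupLike.valMonoidHom K A).comp e.symm.toMonoidHom)
  have hι : ∀ g : Pt K A, toConv (g.ofConv.comp ι) = torPt _ (charHom e g) := by
    intro g
    apply WithConv.ofConv_injective
    apply MonoidAlgebra.algHom_ext
    · intro m
      change g (ι (MonoidAlgebra.single m 1)) = (torPt _ (charHom e g)) (MonoidAlgebra.single m 1)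
      rw [torPt_single, one_mul, charHom_apply, MonoidAlgebra.lift_single, one_smul]
      rfl
    · ext
  -- the unipotent part
  have hreg : IsReg (fun g : Pt K A => (sPart e π g)⁻¹ * g) := (isReg_sPart).inv.mul isReg_id
  obtain ⟨κ, hκ⟩ := exists_algHom hreg
  have hκJ : ∀ a ∈ J, κ a = 0 := by
    intro a ha
    apply Groth.Agent.Books.PointsAC.eq_zero_of_forall_point K A
    intro g
    have h1 := hκ (toConv g) a
    change _ = g (κ a) at h1
    rw [← h1]
    exact ha _ (uPart_mem hπ (toConv g))
  let κ' : (A ⧸ J) →ₐ[K] A := Ideal.Quotient.liftₐ J κ hκJ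
  have hκ' : ∀ g : Pt K A, quotMap J (toConv (g.ofConv.comp κ')) = (sPart e π g)⁻¹ * g := by
    intro g
    apply Pt.ext'
    intro a
    rw [hκ]
    rfl
  let ψ : MonoidAlgebra K (Multiplicative (Fin r → ℤ)) ⊗[K] (A ⧸ J) →ₐ[K] A :=
    Algebra.TensorProduct.lift ι κ' (fun _ _ => .all _ _)
  have hψ : ∀ g : Pt K A, g.ofConv.comp ψ = Algebra.TensorProduct.lift (torPt _ (charHom e g)).ofConv
      (toConv (g.ofConv.comp κ')).ofConv (fun _ _ => .all _ _) := by
    intro g
    rw [← hι]
    apply Algebra.TensorProduct.ext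
    · ext x
      simp [ψ]
    · ext x
      simp [ψ]
  have h1 : ∀ a, ψ (φ a) = a := by
    intro a
    apply eq_of_pts (K := K)
    intro g
    have h2 : g (ψ (φ a)) = (g.ofConv.comp ψ) (φ a) := rfl
    rw [h2, hψ, hφ, hκ']
    change (sPart e π g * _) a = _
    rw [mul_inv_cancel_left]
  have h3 : ∀ z, φ (ψ z) = z := by
    intro z
    rw [← sub_eq_zero]
    apply Groth.Agent.Books.PointsAC.eq_zero_of_forall_point K _
    intro p
    let t : Pt K (MonoidAlgebra K (Multiplicative (Fin r → ℤ))) :=
      toConv (p.comp Algebra.TensorProduct.includeLeft)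
    let u : Pt K (A ⧸ J) := toConv (p.comp Algebra.TensorProduct.includeRight)
    have hp : p = Algebra.TensorProduct.lift t.ofConv u.ofConv (fun _ _ => .all _ _) := by
      apply Algebra.TensorProduct.ext
      · ext x
        simp [t]
      · ext x
        simp [u]
    let g : Pt K A := Pt.map π t * quotMap J u
    have hg : g.ofConv = p.comp φ := by
      apply AlgHom.ext
      intro a
      change g a = p (φ a)
      rw [hp, hφ]
    have hu : quotMap J u ∈ Gu K A := by
      have : quotMap J u ∈ (quotMap (K := K) J).range := ⟨u, rfl⟩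
      rw [range_quotMap_vanIdeal _ isCl_Gu] at this
      exact this
    have ht : charHom e g = (torPt _).symm t := by
      apply MonoidHom.ext
      intro m
      apply Units.ext
      rw [charHom_apply, groupLike_mul, hu, mul_one, Pt.map_apply, hπ, MulEquiv.apply_symm_apply]
      have h := torPt_single _ ((torPt _).symm t) m (1 : K)
      rw [MulEquiv.apply_symm_apply, one_mul] at h
      exact h
    have hs : sPart e π g = Pt.map π t := by
      rw [sPart, ht, MulEquiv.apply_symm_apply]
    have h4 : p (φ (ψ z)) = (g.ofConv.comp ψ) z := by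
      rw [hg]
      rfl
    have h5 : toConv (g.ofConv.comp κ') = u := by
      apply quotMap_injective (K := K) J
      rw [hκ', hs]
      change (Pt.map π t)⁻¹ * (Pt.map π t * quotMap J u) = _
      rw [inv_mul_cancel_left]
    rw [map_sub, sub_eq_zero, h4, hψ, ht, h5, MulEquiv.apply_symm_apply, ← hp]
  exact ⟨AlgEquiv.ofAlgHom φ ψ (AlgHom.ext h3) (AlgHom.ext h1)⟩

end split

end K407.TrigSplit
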